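import Cfsg.Agent.Lib.Replacement.RankTwoPower
import Cfsg.Agent.Lib.Replacement.RankTwoMaximal
import Cfsg.Agent.Lib.TwoFusion.TransferMod
import Cfsg.Agent.Lib.Goldschmidt.Conjugation
import Cfsg.Agent.Lib.Transfer.Fusion
import Cfsg.Agent.Lib.FusionBasics.Group
import Cfsg.Agent.Lib.PGroups.MaximalClass
import Cfsg.Agent.Lib.PGroups.NormalAbelian
import Cfsg.Agent.Lib.PGroups.Frattini
import Cfsg.Agent.Lib.CoprimeAction.Basic
import Cfsg.Agent.S1447
import Cfsg.Agent.S5234

/-!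
Sylow subgroups of rank two (p odd) in a perfect group with an element of order `p` fixed by
every fusion.
-/

set_option autoImplicit false
set_option linter.style.haveILetI false
set_option linter.unusedSectionVars false

namespace CfsgLib.Replacement.IsolatedSylow

open Cfsg CfsgLib RankTwoP
open scoped commutatorElement

variable {K : Type*} [Group K] [Finite K] {p : ℕ} [hp : Fact p.Prime]

/-- `y` has order `p`, lies in `P` and no conjugation moves it inside `P`. -/
structure Fixed (P : Sylow p K) (y : K) : Prop where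
  mem : y ∈ (P : Subgroup K)
  ord : orderOf y = p
  fix : ∀ g : K, g * y * g⁻¹ ∈ (P : Subgroup K) → g * y * g⁻¹ = y

omit [Finite K] in
theorem le_normalizer_of_commutator {X M : Subgroup K} (h : ⁅X, M⁆ ≤ M) :
    X ≤ Subgroup.normalizer (M : Set K) := by
  intro g hg
  refine Subgroup.mem_normalizer_iff.2 fun m => ⟨fun hm => ?_, fun hm => ?_⟩
  · have := mul_mem (h (Subgroup.commutator_mem_commutator hg hm)) hm
    rwa [commutatorElement_def, inv_mul_cancel_right] at this
  · have := mul_mem (h (Subgroup.commutator_mem_commutator (inv_mem hg) hm)) hm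
    rw [commutatorElement_def, inv_inv, inv_mul_cancel_right] at this
    simpa [mul_assoc] using this

variable {P : Sylow p K} {y : K}

theorem Fixed.conj_eq (hf : Fixed P y) {u g : K} (hu : u ∈ Subgroup.zpowers y)
    (hg : g * u * g⁻¹ ∈ (P : Subgroup K)) : g * u * g⁻¹ = u := by
  obtain ⟨i, rfl⟩ := Subgroup.mem_zpowers_iff.1 hu
  by_cases hi : (p : ℤ) ∣ i
  · obtain ⟨j, rfl⟩ := hi
    rw [zpow_mul, zpow_natCast, ← hf.ord, pow_orderOf_eq_one, one_zpow]; group
  obtain ⟨s, s', hs⟩ :=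
    ((Nat.prime_iff_prime_int.1 hp.out).irreducible.coprime_iff_not_dvd).2 hi
  have hy : (y ^ i) ^ s' = y := by
    have h1 : y ^ (p : ℤ) = 1 := by rw [zpow_natCast, ← hf.ord, pow_orderOf_eq_one]
    rw [← zpow_mul]
    conv_rhs => rw [← zpow_one y, ← hs, zpow_add, mul_comm s, zpow_mul, h1, one_zpow, one_mul,
      mul_comm s']
  have hgy : g * y * g⁻¹ ∈ (P : Subgroup K) := by
    rw [← hy, ← conj_zpow]; exact zpow_mem hg _
  rw [← conj_zpow, hf.fix g hgy]

theorem Fixed.center_mem (hf : Fixed P y) : (⟨y, hf.mem⟩ : ↥(P : Subgroup K)) ∈ Subgroup.center ↥(P : Subgroup K) := by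
  refine Subgroup.mem_center_iff.2 fun g => Subtype.ext ?_
  have h1 := hf.fix g (mul_mem (mul_mem g.2 hf.mem) (inv_mem g.2))
  show (g : K) * y = y * g
  calc (g : K) * y = (g : K) * y * (g : K)⁻¹ * g := by group
    _ = y * g := by rw [h1]

theorem false_of_controlled (hperf : commutator K = ⊤) {A : Type*} [CommGroup A]
    (φ : ↥(P : Subgroup K) →* A) (u : ↥(P : Subgroup K)) (hu : φ u ≠ 1)
    (key : ∀ (m : ℕ) (a : K) (h : a * (u : K) ^ m * a⁻¹ ∈ (P : Subgroup K)),
      φ ⟨a * (u : K) ^ m * a⁻¹, h⟩ = φ u ^ m) : False := by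
  obtain ⟨k, hk⟩ := IsPGroup.iff_orderOf.1 P.2 u
  refine CfsgLib.TwoFusion.transfer_ne_one_of_controlled hp.out
    (hp.out.coprime_iff_not_dvd.2 P.not_dvd_index) φ (u : K) u.2 ⟨k, by rw [Subgroup.orderOf_coe, hk]⟩ hu key ?_
  exact CfsgLib.TwoFusion.eq_one_of_mem_commutator _ (hperf ▸ Subgroup.mem_top _)

/-- A top power map into `⟨y⟩` contradicts perfectness. -/
theorem false_of_powHom (hperf : commutator K = ⊤) (hf : Fixed P y) (m : ℕ)
    (hmul : ∀ s t : ↥(P : Subgroup K), (s * t) ^ p ^ m = s ^ p ^ m * t ^ p ^ m)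
    (hW : ∀ t : ↥(P : Subgroup K), t ^ p ^ m ∈ Subgroup.zpowers (⟨y, hf.mem⟩ : ↥(P : Subgroup K)))
    {u : ↥(P : Subgroup K)} (hu : u ^ p ^ m ≠ 1) : False := by
  set W := Subgroup.zpowers (⟨y, hf.mem⟩ : ↥(P : Subgroup K))
  letI : CommGroup W := IsCyclic.commGroup
  let φ : ↥(P : Subgroup K) →* W := MonoidHom.mk' (fun t => ⟨t ^ p ^ m, hW t⟩)
    fun s t => Subtype.ext (hmul s t)
  refine false_of_controlled hperf φ u (fun h => hu (congrArg Subtype.val h)) fun j a h => ?_
  refine Subtype.ext (Subtype.ext ?_)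
  show (a * (u : K) ^ j * a⁻¹) ^ p ^ m = ((u : K) ^ p ^ m) ^ j
  have hmem : (u : K) ^ p ^ m ∈ Subgroup.zpowers y := by
    obtain ⟨i, hi⟩ := Subgroup.mem_zpowers_iff.1 (hW u)
    exact Subgroup.mem_zpowers_iff.2 ⟨i, congrArg Subtype.val hi⟩
  rw [conj_pow, ← pow_mul, mul_comm j, pow_mul]
  refine hf.conj_eq (pow_mem hmem j) ?_
  rw [← pow_mul, mul_comm _ j, pow_mul, ← conj_pow]
  exact pow_mem h _

theorem control_of_metacyclic (hp2 : p ≠ 2) (hm : Cfsg.IsMetacyclic ↥(P : Subgroup K)) :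
    ∀ x ∈ (P : Subgroup K), ∀ u : K, u * x * u⁻¹ ∈ (P : Subgroup K) →
      ∃ n ∈ Subgroup.normalizer ((P : Subgroup K) : Set K), n * x * n⁻¹ = u * x * u⁻¹ := by
  intro x hx u hu
  set F := groupFusionSystem (P : Subgroup K)
  have hn : F.IsNormal (P : Subgroup K) :=
    Cfsg.Agent.S5234.result p P.2 F (CfsgLib.FusionBasics.group_isSaturated P) _
      ⟨le_rfl, fun R hR φ hφ z => hφ.2.1 z⟩ hp2 hm
  set Z := Subgroup.zpowers x
  have hZP : Z ≤ (P : Subgroup K) := Subgroup.zpowers_le.2 hx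
  let φ : Z →* K := (MulAut.conj u).toMonoidHom.comp Z.subtype
  have hφ : φ ∈ F.Hom Z := by
    refine ⟨hZP, fun z => ?_, u, fun z => rfl⟩
    obtain ⟨i, hi⟩ := Subgroup.mem_zpowers_iff.1 z.2
    show u * (z : K) * u⁻¹ ∈ _
    rw [← hi, ← conj_zpow]
    exact zpow_mem hu i
  obtain ⟨ψ, ⟨-, -, g, hg⟩, hext, himg⟩ := hn.2 Z φ hφ
  refine ⟨g, ?_, ?_⟩
  · rw [Subgroup.mem_normalizer_iff_map_conj_eq]
    conv_rhs => rw [← himg]
    ext z
    constructor
    · rintro ⟨t, ht, rfl⟩
      exact ⟨⟨t, Subgroup.mem_sup_right ht⟩, ht, hg _⟩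
    · rintro ⟨t, ht, rfl⟩
      exact ⟨t, ht, (hg t).symm⟩
  · have h1 := hext ⟨x, Subgroup.mem_zpowers x⟩
    rw [hg] at h1
    exact h1

theorem not_isMetacyclic (hperf : commutator K = ⊤) (hp2 : p ≠ 2) (hf : Fixed P y) :
    ¬ Cfsg.IsMetacyclic ↥(P : Subgroup K) := by
  intro hm
  set N := Subgroup.normalizer ((P : Subgroup K) : Set K) with hN
  have hPN : (P : Subgroup K) ≤ N := Subgroup.le_normalizer
  have hfoc := CfsgLib.Transfer.commutator_inf_eq_of_control P hPN (control_of_metacyclic hp2 hm)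
  rw [hperf, top_inf_eq] at hfoc
  -- a complement
  have hidx : ¬ p ∣ ((P : Subgroup K).subgroupOf N).index := fun hd =>
    P.not_dvd_index (hd.trans (Dvd.intro _ (Subgroup.relIndex_mul_index hPN)))
  obtain ⟨A', hA'⟩ := Subgroup.exists_right_complement'_of_coprime (N := (P : Subgroup K).subgroupOf N) (by
    obtain ⟨k, hk⟩ := IsPGroup.iff_card.1 (P.2.comap_subtype (K := N))
    exact hk ▸ (hp.out.coprime_iff_not_dvd.2 hidx).pow_left k)
  set A := A'.map N.subtype with hAdef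
  have hAN : A ≤ N := Subgroup.map_subtype_le _
  have hAcop : (Nat.card A).Coprime p := by
    rw [hAdef, Subgroup.card_map_of_injective N.subtype_injective, ← hA'.symm.index_eq_card]
    exact (hp.out.coprime_iff_not_dvd.2 hidx).symm
  obtain ⟨hab, hsup, hinf, hnab⟩ := Cfsg.Agent.S1447.result p hp2 (P : Subgroup K) A P.2 hm hAN hAcop
  have hyC : y ∈ (P : Subgroup K) ⊓ Subgroup.centralizer (A : Set K) := by
    refine ⟨hf.mem, Subgroup.mem_centralizer_iff.2 fun a ha => ?_⟩
    have h1 := hf.fix a ((Subgroup.mem_normalizer_iff.1 (hAN ha) y).1 hf.mem)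
    calc a * y = a * y * a⁻¹ * a := by group
      _ = y * a := by rw [h1]
  set R := ⁅(P : Subgroup K), A⁆ with hR
  set M := ⁅(P : Subgroup K), (P : Subgroup K)⁆ ⊔ R with hM
  have hRP : R ≤ (P : Subgroup K) := Subgroup.commutator_le.2 fun a ha b hb => by
    rw [commutatorElement_def, show a * b * a⁻¹ * b⁻¹ = a * (b * a⁻¹ * b⁻¹) by group]
    exact mul_mem ha ((Subgroup.mem_normalizer_iff.1 (hAN hb) _).1 (inv_mem ha))
  have hPPle : ⁅(P : Subgroup K), (P : Subgroup K)⁆ ≤ (P : Subgroup K) :=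
    Subgroup.commutator_le.2 fun a ha b hb => mul_mem (mul_mem (mul_mem ha hb) (inv_mem ha)) (inv_mem hb)
  have hMP : M ≤ (P : Subgroup K) := sup_le hPPle hRP
  have hPM : (P : Subgroup K) ≤ Subgroup.normalizer (M : Set K) := by
    have h1 : ⁅(P : Subgroup K), M⁆ ≤ M :=
      (Subgroup.commutator_mono le_rfl hMP).trans le_sup_left
    exact le_normalizer_of_commutator h1
  have hAM : A ≤ Subgroup.normalizer (M : Set K) := by
    have h1 : ⁅A, M⁆ ≤ M := by
      rw [Subgroup.commutator_comm]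
      exact (Subgroup.commutator_mono hMP le_rfl).trans le_sup_right
    exact le_normalizer_of_commutator h1
  -- every element of `N` is `p * a`
  have hdec : ∀ n ∈ N, ∃ q ∈ (P : Subgroup K), ∃ a ∈ A, n = q * a := by
    intro n hn
    obtain ⟨⟨⟨q, hq⟩, ⟨a, ha⟩⟩, hqa⟩ := hA'.2 ⟨n, hn⟩
    exact ⟨q, hq, a, ⟨a, ha, rfl⟩, (congrArg Subtype.val hqa).symm⟩
  have hXnorm : ∀ g, g ∈ Subgroup.normalizer (M : Set K) → ∀ m ∈ M, g * m * g⁻¹ ∈ M :=
    fun g hg m hm => (Subgroup.mem_normalizer_iff.1 hg m).1 hm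
  set X := M ⊔ A with hX
  have hcoeX : ∀ z, z ∈ X ↔ ∃ m ∈ M, ∃ a ∈ A, z = m * a := by
    intro z
    rw [← SetLike.mem_coe, hX, Subgroup.coe_mul_of_right_le_normalizer_left M A hAM]
    constructor
    · rintro ⟨m, hm, a, ha, rfl⟩; exact ⟨m, hm, a, ha, rfl⟩
    · rintro ⟨m, hm, a, ha, rfl⟩; exact ⟨m, hm, a, ha, rfl⟩
  have hcomm : ⁅N, N⁆ ≤ X := by
    refine Subgroup.commutator_le.2 fun n hn n' hn' => ?_
    obtain ⟨q, hq, a, ha, rfl⟩ := hdec n hn
    obtain ⟨q', hq', a', ha', rfl⟩ := hdec n' hn'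
    have hM1 : ∀ {q a : K}, q ∈ (P : Subgroup K) → a ∈ A → a * q * a⁻¹ * q⁻¹ ∈ M := fun {q a} hq ha => by
      refine Subgroup.mem_sup_right ?_
      have := inv_mem (Subgroup.commutator_mem_commutator hq ha : ⁅q, a⁆ ∈ R)
      rwa [commutatorElement_inv, commutatorElement_def] at this
    have e : ⁅q * a, q' * a'⁆ = (q * (a * q' * a⁻¹ * q'⁻¹) * q⁻¹) * ⁅q, q'⁆ *
        (q' * (q * (a * a' * a⁻¹ * q⁻¹ * (a * a' * a⁻¹)⁻¹)) * q'⁻¹) *
        (q' * ⁅a, a'⁆ * q'⁻¹) := by
      simp only [commutatorElement_def]; group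
    rw [e]
    have haa : a * a' * a⁻¹ ∈ A := mul_mem (mul_mem ha ha') (inv_mem ha)
    refine mul_mem (mul_mem (mul_mem ?_ ?_) ?_) ?_
    · exact Subgroup.mem_sup_left (hXnorm q (hPM hq) _ (hM1 hq' ha))
    · exact Subgroup.mem_sup_left (Subgroup.mem_sup_left (Subgroup.commutator_mem_commutator hq hq'))
    · refine Subgroup.mem_sup_left (hXnorm q' (hPM hq') _ ?_)
      rw [show q * (a * a' * a⁻¹ * q⁻¹ * (a * a' * a⁻¹)⁻¹) = ⁅q, a * a' * a⁻¹⁆ by
        rw [commutatorElement_def]; group]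
      exact Subgroup.mem_sup_right (Subgroup.commutator_mem_commutator hq haa)
    · have h3 : ⁅a, a'⁆ ∈ A := mul_mem (mul_mem (mul_mem ha ha') (inv_mem ha)) (inv_mem ha')
      rw [show q' * ⁅a, a'⁆ * q'⁻¹ = (q' * ⁅a, a'⁆ * q'⁻¹ * ⁅a, a'⁆⁻¹) * ⁅a, a'⁆ by group]
      refine mul_mem (Subgroup.mem_sup_left (Subgroup.mem_sup_right ?_)) (Subgroup.mem_sup_right h3)
      exact Subgroup.commutator_mem_commutator hq' h3
  have hPM' : (P : Subgroup K) ≤ M := by
    intro q hq
    obtain ⟨m, hm', a, ha, hqma⟩ := (hcoeX q).1 (hcomm ((hfoc.le hq).1))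
    have haP : a ∈ (P : Subgroup K) := by
      rw [show a = m⁻¹ * q by rw [hqma]; group]; exact mul_mem (inv_mem (hMP hm')) hq
    obtain ⟨k, hk⟩ := IsPGroup.iff_orderOf.1 P.2 ⟨a, haP⟩
    rw [Subgroup.orderOf_mk] at hk
    have := Nat.eq_one_of_dvd_coprimes (hAcop.pow_right k) (Subgroup.orderOf_dvd_natCard _ ha) hk.dvd
    rw [orderOf_eq_one_iff.1 this, mul_one] at hqma
    rwa [hqma]
  -- hence `P = [P, A]`
  have hgen : R.subgroupOf (P : Subgroup K) ⊔ frattini ↥(P : Subgroup K) = ⊤ := by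
    rw [eq_top_iff]
    intro t _
    have hle : M ≤ (R.subgroupOf (P : Subgroup K) ⊔ frattini ↥(P : Subgroup K)).map (P : Subgroup K).subtype := by
      refine sup_le ?_ fun r hr => ⟨⟨r, hRP hr⟩, Subgroup.mem_sup_left hr, rfl⟩
      rw [← Subgroup.map_subtype_commutator]
      exact Subgroup.map_mono ((PGroups.commutator_le_frattini P.2).trans le_sup_right)
    obtain ⟨s, hs, hst⟩ := hle (hPM' t.2)
    rwa [← Subtype.ext hst]
  have hRtop : R.subgroupOf (P : Subgroup K) = ⊤ := frattini_nongenerating hgen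
  have hy1 : y ∈ R ⊓ ((P : Subgroup K) ⊓ Subgroup.centralizer (A : Set K)) :=
    ⟨Subgroup.subgroupOf_eq_top.1 hRtop hf.mem, hyC⟩
  rw [hinf, Subgroup.mem_bot] at hy1
  exact hp.out.ne_one (by rw [← hf.ord, hy1, orderOf_one])

variable {E C : Subgroup ↥(P : Subgroup K)} {x : ↥(P : Subgroup K)}

/-- No fusion moves an element of order `p²` of `C` with `p`-th power in `⟨y⟩` out of `C`. -/
theorem no_jump (hf : Fixed P y) (H : RankTwoMaximal.Hyp p E C ⟨y, hf.mem⟩ x) :
    ∀ {A : Set K} {g : K}, CfsgLib.Goldschmidt.Conj P A g → ∀ a ∈ A,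
      (∃ h : a ∈ (P : Subgroup K), (⟨a, h⟩ : ↥(P : Subgroup K)) ∈ C) →
      a ^ p ∈ Subgroup.zpowers y → a ^ p ≠ 1 →
      ∃ h : g⁻¹ * a * g ∈ (P : Subgroup K), (⟨g⁻¹ * a * g, h⟩ : ↥(P : Subgroup K)) ∈ C := by
  intro A g hconj
  induction hconj with
  | centralize A c hc =>
    intro a ha hC _ _
    have : c⁻¹ * a * c = a := by rw [mul_assoc, hc a ha, inv_mul_cancel_left]
    rw [this]; exact hC
  | step A D z g hA hD hz _ ih =>
    rintro a ha ⟨haP, haC⟩ hap hap1
    set b := z⁻¹ * a * z with hb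
    have haD : a ∈ D := hA ha
    have hbD : b ∈ D := by
      have := (Subgroup.mem_normalizer_iff.1 (inv_mem hz) a).1 haD
      rwa [inv_inv] at this
    have hbP : b ∈ (P : Subgroup K) := hD.1 hbD
    have hbp : b ^ p = a ^ p := by
      have h0 := map_pow (MulAut.conj z⁻¹) a p
      simp only [MulAut.conj_apply, inv_inv] at h0
      have h1 := hf.conj_eq hap (g := z⁻¹) (by rw [inv_inv, h0]; exact pow_mem hbP p)
      rw [inv_inv] at h1
      rw [hb, ← h0, h1]
    have hbC : (⟨b, hbP⟩ : ↥(P : Subgroup K)) ∈ C := by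
      by_contra hbC
      have h3 := H.card_centralizer_lt (D.subgroupOf (P : Subgroup K)) (a := ⟨a, haP⟩) (b := ⟨b, hbP⟩)
        haD hbD haC hbC (by
          obtain ⟨i, hi⟩ := Subgroup.mem_zpowers_iff.1 hap
          exact Subgroup.mem_zpowers_iff.2 ⟨i, Subtype.ext hi⟩)
        (fun h => hap1 (congrArg Subtype.val h))
      have hcard : ∀ (t : K) (ht : t ∈ (P : Subgroup K)),
          Nat.card ↥(D.subgroupOf (P : Subgroup K) ⊓ Subgroup.centralizer ({⟨t, ht⟩} : Set ↥(P : Subgroup K))) =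
            Nat.card ↥(D ⊓ Subgroup.centralizer {t}) := by
        intro t ht
        rw [← Subgroup.card_map_of_injective (P : Subgroup K).subtype_injective]
        congr 2
        ext s
        constructor
        · rintro ⟨u, ⟨hu1, hu2⟩, rfl⟩
          exact ⟨hu1, Subgroup.mem_centralizer_singleton_iff.2
            (congrArg Subtype.val (Subgroup.mem_centralizer_singleton_iff.1 hu2))⟩
        · rintro ⟨hs1, hs2⟩
          exact ⟨⟨s, hD.1 hs1⟩, ⟨hs1, Subgroup.mem_centralizer_singleton_iff.2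
            (Subtype.ext (Subgroup.mem_centralizer_singleton_iff.1 hs2))⟩, rfl⟩
      rw [hcard, hcard] at h3
      refine h3.ne ?_
      refine Eq.trans ?_ (Subgroup.card_map_of_injective (K := D ⊓ Subgroup.centralizer {a})
        (f := (MulAut.conj z⁻¹).toMonoidHom) (MulAut.conj z⁻¹).injective)
      congr 2
      ext s
      rw [Subgroup.mem_map_equiv, MulAut.conj_symm_apply, inv_inv, Subgroup.mem_inf, Subgroup.mem_inf,
        Subgroup.mem_centralizer_singleton_iff, Subgroup.mem_centralizer_singleton_iff,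
        ← Subgroup.mem_normalizer_iff.1 hz s, hb]
      refine and_congr_right fun _ => ?_
      constructor
      · intro h
        calc z * s * z⁻¹ * a = z * (s * (z⁻¹ * a * z)) * z⁻¹ := by group
          _ = z * ((z⁻¹ * a * z) * s) * z⁻¹ := by rw [h]
          _ = _ := by group
      · intro h
        calc s * (z⁻¹ * a * z) = z⁻¹ * (z * s * z⁻¹ * a) * z := by group
          _ = z⁻¹ * (a * (z * s * z⁻¹)) * z := by rw [h]
          _ = _ := by group
    obtain ⟨h, hh⟩ := ih b ⟨a, ha, rfl⟩ ⟨hbP, hbC⟩ (hbp ▸ hap) (hbp ▸ hap1)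
    have e : (z * g)⁻¹ * a * (z * g) = g⁻¹ * b * g := by rw [hb]; group
    simp only [e]
    exact ⟨h, hh⟩

theorem false_of_maximal (hperf : commutator K = ⊤) (hf : Fixed P y)
    (H : RankTwoMaximal.Hyp p E C ⟨y, hf.mem⟩ x) (m : ℕ)
    (hW : ∀ u ∈ C, u ^ p ^ (m + 1) ∈ Subgroup.zpowers (⟨y, hf.mem⟩ : ↥(P : Subgroup K)))
    {u : ↥(P : Subgroup K)} (huC : u ∈ C) (hu : u ^ p ^ (m + 1) ≠ 1) : False := by
  set w : ↥(P : Subgroup K) := ⟨y, hf.mem⟩
  haveI := H.base.normalC
  have hwq : w ^ p ^ (m + 1) = 1 := by rw [pow_succ', pow_mul, H.hwp, one_pow]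
  let Kc : Subgroup ↥(P : Subgroup K) :=
    { carrier := {c | c ∈ C ∧ c ^ p ^ (m + 1) = 1}
      one_mem' := ⟨one_mem C, one_pow _⟩
      mul_mem' := fun {a b} ha hb => ⟨mul_mem ha.1 hb.1, by rw [H.mul_pow ha.1 hb.1, ha.2, hb.2, one_mul]⟩
      inv_mem' := fun {a} ha => ⟨inv_mem ha.1, by rw [inv_pow, ha.2, inv_one]⟩ }
  haveI : Kc.Normal := ⟨fun c hc g => ⟨H.base.normalC.conj_mem c hc.1 g, by
    rw [conj_pow, hc.2, mul_one, mul_inv_cancel]⟩⟩
  have hxp : x ^ p ∈ Kc := by
    refine ⟨pow_prime_mem H.hidx H.base.normalC x, ?_⟩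
    obtain ⟨i, hi⟩ := Subgroup.mem_zpowers_iff.1 (H.pow_mem H.hx)
    rw [← hi, ← zpow_natCast, ← zpow_mul, mul_comm, zpow_mul, zpow_natCast, hwq, one_zpow]
  set M0 := Kc ⊔ Subgroup.zpowers x
  have hM0 : M0 ≠ ⊤ := by
    intro htop
    obtain ⟨c, hc, b, hb, hcb⟩ := Subgroup.mem_sup_of_normal_left.1 (htop ▸ Subgroup.mem_top u)
    obtain ⟨i, rfl⟩ := Subgroup.mem_zpowers_iff.1 hb
    have hxi : x ^ i ∈ C := by
      rw [show x ^ i = c⁻¹ * u by rw [← hcb]; group]; exact mul_mem (inv_mem hc.1) huC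
    have hpi : (p : ℤ) ∣ i := by
      by_contra hpi
      obtain ⟨s, s', hs⟩ :=
        ((Nat.prime_iff_prime_int.1 hp.out).irreducible.coprime_iff_not_dvd).2 hpi
      refine H.hx ?_
      rw [← zpow_one x, ← hs, zpow_add, mul_comm s, zpow_mul, mul_comm s', zpow_mul]
      exact mul_mem (zpow_mem (by rw [zpow_natCast]; exact hxp.1) _) (zpow_mem hxi _)
    obtain ⟨l, rfl⟩ := hpi
    rw [zpow_mul, zpow_natCast] at hcb
    exact hu (hcb ▸ (mul_mem hc (zpow_mem hxp l) : c * (x ^ p) ^ l ∈ Kc)).2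
  obtain ⟨M, hM, hM0M⟩ := (eq_top_or_exists_le_coatom M0).resolve_left hM0
  haveI : Group.IsNilpotent ↥(P : Subgroup K) := P.2.isNilpotent
  haveI : M.Normal := Subgroup.NormalizerCondition.normal_of_coatom M normalizerCondition_of_isNilpotent hM
  have hKM : Kc ≤ M := le_sup_left.trans hM0M
  have hwo : orderOf (u ^ p ^ (m + 1)) = p := by
    refine orderOf_eq_prime ?_ hu
    obtain ⟨i, hi⟩ := Subgroup.mem_zpowers_iff.1 (hW u huC)
    rw [← hi, ← zpow_natCast, ← zpow_mul, mul_comm, zpow_mul, zpow_natCast, H.hwp, one_zpow]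
  have hgenW : Subgroup.zpowers (u ^ p ^ (m + 1)) = Subgroup.zpowers w := by
    refine Subgroup.eq_of_le_of_card_ge (Subgroup.zpowers_le.2 (hW u huC)) ?_
    rw [Nat.card_zpowers, Nat.card_zpowers, hwo, orderOf_eq_prime H.hwp H.hw1]
  have huM : u ∉ M := by
    intro huM
    have hCM : C ≤ M := by
      intro c hc
      obtain ⟨i, hi⟩ := Subgroup.mem_zpowers_iff.1 (hgenW.ge (hW c hc))
      have hci : c * (u ^ i)⁻¹ ∈ Kc := by
        refine ⟨mul_mem hc (inv_mem (zpow_mem huC i)), ?_⟩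
        rw [H.mul_pow hc (inv_mem (zpow_mem huC i)), inv_pow, ← hi, ← zpow_natCast (u ^ i), ← zpow_mul,
          mul_comm, zpow_mul, zpow_natCast, mul_inv_cancel]
      simpa using mul_mem (hKM hci) (zpow_mem huM i)
    have hlt : C < M := lt_of_le_of_ne hCM fun h =>
      H.hx (h.symm ▸ hM0M (Subgroup.mem_sup_right (Subgroup.mem_zpowers x)))
    exact hM.1 ((isCoatom_C H.hidx).2 M hlt)
  have hcommM : commutator ↥(P : Subgroup K) ≤ M := (PGroups.commutator_le_frattini P.2).trans (frattini_le_coatom hM)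
  letI : CommGroup ((↥(P : Subgroup K)) ⧸ M) :=
    { (inferInstance : Group ((↥(P : Subgroup K)) ⧸ M)) with
      mul_comm := by
        intro a b
        induction a using QuotientGroup.induction_on with
        | H a => ?_
        induction b using QuotientGroup.induction_on with
        | H b => ?_
        show ((a * b : ↥(P : Subgroup K)) : (↥(P : Subgroup K)) ⧸ M) = ((b * a : ↥(P : Subgroup K)) : (↥(P : Subgroup K)) ⧸ M)
        rw [QuotientGroup.eq]
        have : ⁅b⁻¹, a⁻¹⁆ ∈ M := hcommM (Subgroup.commutator_mem_commutator (Subgroup.mem_top _) (Subgroup.mem_top _))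
        rw [commutatorElement_def, inv_inv, inv_inv] at this
        simpa [mul_assoc] using this }
  refine false_of_controlled hperf (QuotientGroup.mk' M) u
    (fun h => huM ((QuotientGroup.eq_one_iff u).1 h)) fun j a hv => ?_
  rw [← map_pow]
  refine (QuotientGroup.eq.2 (hKM ?_)).symm
  set v : ↥(P : Subgroup K) := ⟨a * (u : K) ^ j * a⁻¹, hv⟩ with hvdef
  have hyu : ((u ^ p ^ (m + 1) : ↥(P : Subgroup K)) : K) ∈ Subgroup.zpowers y := by
    obtain ⟨i, hi⟩ := Subgroup.mem_zpowers_iff.1 (hW u huC)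
    exact Subgroup.mem_zpowers_iff.2 ⟨i, congrArg Subtype.val hi⟩
  have hvq : v ^ p ^ (m + 1) = (u ^ p ^ (m + 1)) ^ j := by
    refine Subtype.ext ?_
    show (a * (u : K) ^ j * a⁻¹) ^ p ^ (m + 1) = ((u : K) ^ p ^ (m + 1)) ^ j
    rw [conj_pow, ← pow_mul, mul_comm j, pow_mul]
    refine hf.conj_eq (pow_mem hyu j) ?_
    rw [← pow_mul, mul_comm _ j, pow_mul, ← conj_pow]
    exact pow_mem hv _
  by_cases hvC : v ∈ C
  · refine ⟨mul_mem (inv_mem (pow_mem huC j)) hvC, ?_⟩
    rw [H.mul_pow (inv_mem (pow_mem huC j)) hvC, inv_pow, hvq, ← pow_mul, mul_comm, pow_mul,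
      inv_mul_cancel]
  exfalso
  obtain ⟨i, hi⟩ := Subgroup.mem_zpowers_iff.1 (H.pow_mem hvC)
  have hvp : (a * (u : K) ^ j * a⁻¹) ^ p ∈ Subgroup.zpowers y :=
    Subgroup.mem_zpowers_iff.2 ⟨i, congrArg Subtype.val hi⟩
  have hujp : ((u : K) ^ j) ^ p = (a * (u : K) ^ j * a⁻¹) ^ p := by
    have h1 := hf.conj_eq hvp (g := a⁻¹) (by
      rw [conj_pow]
      simpa [mul_assoc] using ((u ^ j) ^ p).2)
    rw [inv_inv] at h1
    conv_rhs => rw [← h1]
    rw [conj_pow]; group
  by_cases hv1 : ((u : K) ^ j) ^ p = 1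
  · -- `u ^ j` is a power of `y`
    apply hvC
    have hord : orderOf u = p ^ (m + 2) := orderOf_eq_prime_pow hu (by
      rw [pow_succ p (m + 1), pow_mul]; exact orderOf_dvd_iff_pow_eq_one.1 hwo.dvd)
    have hdvd : p ^ (m + 2) ∣ j * p := by
      rw [← hord, orderOf_dvd_iff_pow_eq_one]
      exact Subtype.ext (by rw [pow_mul]; exact hv1)
    obtain ⟨l, rfl⟩ : p ^ (m + 1) ∣ j := Nat.dvd_of_mul_dvd_mul_right hp.out.pos (by rwa [← pow_succ])
    have hmem : (u : K) ^ (p ^ (m + 1) * l) ∈ Subgroup.zpowers y := by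
      rw [pow_mul]; exact pow_mem hyu l
    have he : v = u ^ (p ^ (m + 1) * l) := Subtype.ext (hf.conj_eq hmem hv)
    rw [he]; exact pow_mem huC _
  · have hb : ((u : K) ^ j) ∈ (P : Subgroup K) := (u ^ j).2
    have hconj : (fun b => (a⁻¹)⁻¹ * b * a⁻¹) '' ({(u : K) ^ j} : Set K) ⊆ (P : Set K) := by
      rintro _ ⟨_, rfl, rfl⟩
      rw [inv_inv]; exact hv
    obtain ⟨h, hh⟩ := no_jump hf H
      (CfsgLib.Goldschmidt.conj_of_fusion P (Set.singleton_subset_iff.2 hb) hconj) _ rfl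
      ⟨hb, pow_mem huC j⟩ (hujp ▸ hvp) hv1
    apply hvC
    simp only [inv_inv] at hh
    exact hh

/-- The possible Sylow subgroups. -/
theorem structure_of_fixed (hperf : commutator K = ⊤) (hp2 : p ≠ 2) (hf : Fixed P y)
    (hrk : Cfsg.PRankLE p 2 ↥(P : Subgroup K)) :
    (Cfsg.IsExtraspecial p ↥(P : Subgroup K) ∧ Nat.card (P : Subgroup K) = p ^ 3 ∧
        ∀ t ∈ (P : Subgroup K), t ^ p = 1) ∨
    (p = 3 ∧ ∃ k : ℕ, 2 ≤ k ∧ Nat.card (P : Subgroup K) = 3 ^ (2 * k + 1) ∧
      ∃ _ : Group.IsNilpotent ↥(P : Subgroup K), Group.nilpotencyClass ↥(P : Subgroup K) = 2 * k) := by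
  set T := ↥(P : Subgroup K)
  have hT : IsPGroup p T := P.2
  set w : T := ⟨y, hf.mem⟩
  have hwc : w ∈ Subgroup.center T := hf.center_mem
  have hwp : w ^ p = 1 := Subtype.ext (by
    show y ^ p = 1
    rw [← hf.ord, pow_orderOf_eq_one])
  have hw1 : w ≠ 1 := fun h => hp.out.ne_one (by
    rw [← hf.ord, show y = 1 from congrArg Subtype.val h, orderOf_one])
  have hnm := not_isMetacyclic hperf hp2 hf
  have hcyc : ¬ IsCyclic T := fun hc => hnm ⟨⊥, inferInstance, inferInstance,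
    isCyclic_of_surjective (QuotientGroup.mk' (⊥ : Subgroup T)) (QuotientGroup.mk'_surjective _)⟩
  obtain ⟨E, hEn, hEel, hEcard⟩ := PGroups.exists_normal_elemAb_sq hp2 hT hcyc
  set C := Subgroup.centralizer (E : Set T) with hCdef
  have hb : Base p E C := by
    refine ⟨hEn, fun a ha b hb => congrArg Subtype.val (hEel.1.is_comm.comm ⟨a, ha⟩ ⟨b, hb⟩), hEel.2,
      hEcard, rfl, fun g hg hgp => ?_⟩
    by_contra hgE
    set A := E ⊔ Subgroup.zpowers g
    have hle : ∀ a ∈ E, a * g = g * a := fun a ha => Subgroup.mem_centralizer_iff.1 hg a ha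
    have hAc : IsMulCommutative A := by
      have : A = Subgroup.closure ((E : Set T) ∪ {g}) := by
        rw [Subgroup.closure_union, Subgroup.closure_eq, ← Subgroup.zpowers_eq_closure]
      rw [this]
      refine Subgroup.isMulCommutative_closure ?_
      rintro a (ha | rfl) b (hb' | rfl)
      · exact congrArg Subtype.val (hEel.1.is_comm.comm ⟨a, ha⟩ ⟨b, hb'⟩)
      · exact hle a ha
      · exact (hle b hb').symm
      · rfl
    have hAexp : ∀ a ∈ A, a ^ p = 1 := by
      intro a ha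
      obtain ⟨e, he, b, hb', rfl⟩ := Subgroup.mem_sup_of_normal_left.1 ha
      obtain ⟨i, rfl⟩ := Subgroup.mem_zpowers_iff.1 hb'
      rw [(show Commute e g from hle e he).zpow_right i |>.mul_pow, hEel.2 e he, one_mul,
        ← zpow_natCast, ← zpow_mul, mul_comm, zpow_mul, zpow_natCast, hgp, one_zpow]
    have h1 := PGroups.prime_mul_card_le hT (lt_of_le_of_ne (le_sup_left : E ≤ A) fun h =>
      hgE (h.symm ▸ Subgroup.mem_sup_right (Subgroup.mem_zpowers g)))
    have h2 := hrk A hAc hAexp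
    rw [hEcard] at h1
    have := hp.out.two_le
    have := pow_pos hp.out.pos 2
    nlinarith
  by_cases htop : C = ⊤
  · exact absurd (isMetacyclic_of_central hp2 _ rfl hT E (htop ▸ hb)) hnm
  have hidx : C.index = p := by
    have h1 := PGroups.index_centralizer_le hT 2 E hEn hEcard
    rw [show Nat.choose 2 2 = 1 from rfl, pow_one] at h1
    obtain ⟨j, hj⟩ := hT.index C
    rcases j with _ | _ | j
    · exact absurd (Subgroup.index_eq_one.1 (by simpa using hj)) htop
    · simpa using hj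
    · rw [← hCdef, hj] at h1
      have h3 := Nat.pow_lt_pow_right hp.out.one_lt (show 1 < j + 1 + 1 by omega)
      rw [pow_one] at h3
      omega
  obtain ⟨n, hn⟩ := IsPGroup.iff_card.1 hT
  have third : p = 3 → C ≠ E → ∀ x : T, x ∉ C → (∀ g ∈ C, g * x = x * g → g ∈ E) →
      ∃ k : ℕ, 2 ≤ k ∧ Nat.card T = 3 ^ (2 * k + 1) ∧
        ∃ _ : Group.IsNilpotent T, Group.nilpotencyClass T = 2 * k := by
    intro h3 hCE x hx hcx
    have H : RankTwoMaximal.Hyp p E C w x := ⟨hb, hidx, hp2, hT, hwc, hwp, hw1, hx, hcx⟩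
    rcases H.dichotomy hCE with ⟨k, hk2, hk⟩ | ⟨m, hW, u, huC, hu⟩
    · refine ⟨k, hk2, by rw [← h3]; exact hk, hT.isNilpotent, ?_⟩
      have := hT.isNilpotent
      set A := Subgroup.centralizer ({x} : Set T) with hA
      have hxA : x ∈ A := Subgroup.mem_centralizer_singleton_iff.2 rfl
      have hAC : A ⊓ C = E ⊓ Subgroup.center T := by
        refine le_antisymm (fun g hg => ?_) (fun g hg => ⟨Subgroup.mem_centralizer_singleton_iff.2
          (Subgroup.mem_center_iff.1 hg.2 x).symm, hb.le hg.1⟩)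
        have h1 := Subgroup.mem_centralizer_singleton_iff.1 hg.1
        exact ⟨hcx g hg.2 h1, mem_center_of_commute hb hidx (hcx g hg.2 h1) hx h1⟩
      have hcardA : Nat.card A = p ^ 2 := by
        have hCn := hb.normalC
        have h1 := Subgroup.relIndex_mul_relIndex ⊥ (A ⊓ C) A bot_le inf_le_left
        rw [Subgroup.relIndex_bot_left, Subgroup.relIndex_bot_left, hAC, card_inf_center hb hidx hT,
          ← hAC, Subgroup.inf_relIndex_left] at h1
        rcases hp.out.eq_one_or_self_of_dvd _ (hidx ▸ C.relIndex_dvd_index_of_normal A) with h2 | h2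
        · exact absurd (Subgroup.relIndex_eq_one.1 h2 hxA) hx
        · rw [← h1, h2, pow_two]
      have hself : Subgroup.centralizer (A : Set T) = A := by
        refine le_antisymm (fun g hg => ?_) ?_
        · exact Subgroup.mem_centralizer_singleton_iff.2
            (Subgroup.mem_centralizer_iff.1 hg x hxA).symm
        · have := IsPGroup.isMulCommutative_of_card_eq_prime_sq hcardA
          exact Subgroup.le_centralizer_iff_isMulCommutative.2 this
      have hcl := PGroups.class_of_self_centralizing_sq (2 * k + 1) hk A hcardA hself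
      omega
    · exact absurd (false_of_maximal hperf hf H m hW huC hu) not_false
  rcases RankTwoP.outcome hp2 _ rfl hT E C hb hidx with h | h | h
  · exact absurd h hnm
  · obtain ⟨x, hx, hxp, c, hcC, hC, hd⟩ := h
    rcases RankTwoPower.split_case hb hidx hp2 hT hwc hwp hw1 hx hxp hcC hC hd with
      ⟨hcard, hexp⟩ | ⟨h3, hCE, hcx⟩ | ⟨m, hmul, hW, u, hu⟩
    · left
      refine ⟨?_, hcard, fun t ht => congrArg Subtype.val (hexp ⟨t, ht⟩)⟩
      have hCE : C = E := by
        refine (Subgroup.eq_of_le_of_card_ge hb.le ?_).symm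
        have h1 := C.card_mul_index
        rw [hidx, hcard, pow_succ] at h1
        rw [Nat.eq_of_mul_eq_mul_right hp.out.pos h1, hb.card]
      have hwE := RankTwoPower.center_mem_base hb hwc hwp
      have hZ : Subgroup.center T = E ⊓ Subgroup.center T := by
        refine (inf_eq_right.2 fun z hz => ?_).symm
        rw [← hCE]
        by_contra hzC
        obtain ⟨e, he, hne⟩ := exists_not_commute hb hzC
        exact hne (Subgroup.mem_center_iff.1 hz e)
      have hZcard : Nat.card (Subgroup.center T) = p := by rw [hZ]; exact card_inf_center hb hidx hT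
      have hcomZ : commutator T ≤ Subgroup.center T := by
        have hq : Nat.card (T ⧸ Subgroup.center T) = p ^ 2 := by
          have := (Subgroup.center T).card_eq_card_quotient_mul_card_subgroup
          rw [hcard, hZcard, pow_succ] at this
          exact (Nat.eq_of_mul_eq_mul_right hp.out.pos this).symm
        haveI := IsPGroup.isMulCommutative_of_card_eq_prime_sq hq
        rw [commutator_def, Subgroup.commutator_le]
        intro a _ b _
        rw [← QuotientGroup.eq_one_iff]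
        show QuotientGroup.mk' (Subgroup.center T) ⁅a, b⁆ = 1
        rw [map_commutatorElement, commutatorElement_eq_one_iff_mul_comm]
        exact mul_comm' _ _
      have hcomne : commutator T ≠ ⊥ := by
        intro h0
        obtain ⟨e, he, hne⟩ := exists_not_commute hb hx
        apply hne
        rw [← commutatorElement_eq_one_iff_mul_comm, ← Subgroup.mem_bot, ← h0]
        exact Subgroup.commutator_mem_commutator (Subgroup.mem_top _) (Subgroup.mem_top _)
      have hcomEq : commutator T = Subgroup.center T := by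
        refine Subgroup.eq_of_le_of_card_ge hcomZ ?_
        rw [hZcard]
        exact Nat.le_of_dvd Nat.card_pos (((hT.to_subgroup _).card_eq_or_dvd).resolve_left
          fun h => hcomne (Subgroup.card_eq_one.1 h))
      refine ⟨⟨hT, le_antisymm ?_ (hcomEq ▸ PGroups.commutator_le_frattini hT), hcomEq⟩, hZcard⟩
      exact PGroups.frattini_le_of hcomZ fun t => by rw [hexp]; exact one_mem _
    · exact Or.inr ⟨h3, third h3 hCE x hx hcx⟩
    · exact absurd (false_of_powHom hperf hf m hmul hW hu) not_false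
  · obtain ⟨h3, hCE, x, hx, -, hcx⟩ := h
    exact Or.inr ⟨h3, third h3 hCE x hx hcx⟩

end CfsgLib.Replacement.IsolatedSylow
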