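import Cfsg.Agent.Lib.KInf.CriticalEngel
import Cfsg.Agent.Lib.NormalPComplement.Thompson
import Cfsg.Agent.Lib.Replacement.Counting

/-!
Engel degree of an abelian subgroup of largest order that is not inside `O_p(G)`.

Let `A` be an abelian subgroup of largest order of a `p`-subgroup `T`, not inside `P = O_p(G)`, and chosen
with `A ∩ X` and then `A ∩ R` largest, where `X` is a maximal normal abelian subgroup of `G` inside `P` and
`R = C_P(X)`. With `Q` the elements of `R` central in `P` modulo `X`, either `A` acts quadratically on `X`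
and with degree at most five on `Q/X`, or with degree at most three on the chief factors in `X` and at most
four on `Q/X`. Hence it has degree at most six on every chief factor inside `O_p(G)`.
-/

set_option autoImplicit false
set_option linter.style.haveILetI false

open scoped commutatorElement

namespace CfsgLib.Replacement.JEngel

open CfsgLib.ConjFunctor CfsgLib.KInf CfsgLib.NormalPComplement

variable {G : Type*} [Group G]

/-! ### Commutator identities -/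

theorem comm_mul_right {e y z : G} (h : Commute ⁅e, z⁆ y) : ⁅e, y * z⁆ = ⁅e, y⁆ * ⁅e, z⁆ := by
  calc ⁅e, y * z⁆ = ⁅e, y⁆ * (y * ⁅e, z⁆ * y⁻¹) := by simp only [commutatorElement_def]; group
    _ = _ := by rw [← h.eq, mul_inv_cancel_right]

theorem comm_mul_right' (e y z : G) : ⁅e, y * z⁆ = ⁅e, y⁆ * (y * ⁅e, z⁆ * y⁻¹) := by
  simp only [commutatorElement_def]; group

theorem comm_comm_eq {e f y : G} (hef : Commute e f) (h : Commute ⁅f, y⁆ ⁅e, y⁆) :
    ⁅e, ⁅f, y⁆⁆ = ⁅f, ⁅e, y⁆⁆ := by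
  have h1 : e * ⁅f, y⁆ * e⁻¹ = ⁅f, ⁅e, y⁆⁆ * ⁅f, y⁆ := by
    have h2 : e * ⁅f, y⁆ * e⁻¹ = ⁅f, ⁅e, y⁆ * y⁆ := by
      calc e * ⁅f, y⁆ * e⁻¹ = (e * f * e⁻¹) * (e * y * e⁻¹) * (e * f * e⁻¹)⁻¹ * (e * y * e⁻¹)⁻¹ := by
            simp only [commutatorElement_def]; group
        _ = _ := by
            rw [show e * f * e⁻¹ = f by rw [hef.eq, mul_inv_cancel_right]]
            simp only [commutatorElement_def]; group
    rw [h2, comm_mul_right', ← h.eq, mul_inv_cancel_right]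
  calc ⁅e, ⁅f, y⁆⁆ = (e * ⁅f, y⁆ * e⁻¹) * ⁅f, y⁆⁻¹ := commutatorElement_def _ _
    _ = _ := by rw [h1, mul_inv_cancel_right]

theorem comm_mem_of_normalizer {H : Subgroup G} {e y : G} (he : e ∈ Subgroup.normalizer (H : Set G))
    (hy : y ∈ H) : ⁅e, y⁆ ∈ H :=
  H.mul_mem ((Subgroup.mem_normalizer_iff.1 he y).1 hy) (H.inv_mem hy)

theorem comm_of_isMulCommutative {H : Subgroup G} (h : IsMulCommutative H) {a b : G} (ha : a ∈ H)
    (hb : b ∈ H) : Commute a b :=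
  congrArg Subtype.val (h.is_comm.comm ⟨a, ha⟩ ⟨b, hb⟩)

theorem isMulCommutative_sup {U V : Subgroup G} (hU : ∀ a ∈ U, ∀ b ∈ U, Commute a b)
    (hV : ∀ a ∈ V, ∀ b ∈ V, Commute a b) (hUV : ∀ a ∈ U, ∀ b ∈ V, Commute a b) :
    IsMulCommutative ↥(U ⊔ V) := by
  rw [show U ⊔ V = Subgroup.closure ((U : Set G) ∪ V) by
    rw [Subgroup.closure_union, Subgroup.closure_eq, Subgroup.closure_eq]]
  refine Subgroup.isMulCommutative_closure ?_
  rintro a (ha | ha) b (hb | hb)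
  · exact (hU a ha b hb).eq
  · exact (hUV a ha b hb).eq
  · exact (hUV b hb a ha).symm.eq
  · exact (hV a ha b hb).eq

/-! ### Iterated commutators -/

/-- The subgroup generated by the commutators of `A` with `v`. -/
def gcl (A : Subgroup G) (v : G) : Subgroup G := Subgroup.closure ((fun a => ⁅a, v⁆) '' (A : Set G))

theorem mem_gcl {A : Subgroup G} {v a : G} (ha : a ∈ A) : ⁅a, v⁆ ∈ gcl A v :=
  Subgroup.subset_closure ⟨a, ha, rfl⟩

theorem gcl_le {A H : Subgroup G} {v : G} (h : ∀ a ∈ A, ⁅a, v⁆ ∈ H) : gcl A v ≤ H :=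
  (Subgroup.closure_le _).2 (by rintro _ ⟨a, ha, rfl⟩; exact h a ha)

theorem gcl_normalized (A : Subgroup G) (v : G) : A ≤ Subgroup.normalizer (gcl A v : Set G) := by
  have key : ∀ b ∈ A, ∀ m ∈ gcl A v, b * m * b⁻¹ ∈ gcl A v := by
    intro b hb
    have h : gcl A v ≤ (gcl A v).comap (MulAut.conj b).toMonoidHom := by
      refine gcl_le fun a ha => ?_
      show b * ⁅a, v⁆ * b⁻¹ ∈ gcl A v
      rw [show b * ⁅a, v⁆ * b⁻¹ = ⁅b * a, v⁆ * ⁅b, v⁆⁻¹ by simp only [commutatorElement_def]; group]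
      exact mul_mem (mem_gcl (A.mul_mem hb ha)) (inv_mem (mem_gcl hb))
    exact fun m hm => h hm
  intro b hb
  refine Subgroup.mem_normalizer_iff.2 fun m => ⟨key b hb m, fun hm => ?_⟩
  have := key b⁻¹ (A.inv_mem hb) _ hm
  rwa [show b⁻¹ * (b * m * b⁻¹) * b⁻¹⁻¹ = m by group] at this

theorem iterCommutator_le_of_forall {U K : Subgroup G} (hKU : K ≤ Subgroup.normalizer (U : Set G)) :
    ∀ (n : ℕ) (V : Subgroup G), V ≤ U → ⁅U, U⁆ ≤ V → K ≤ Subgroup.normalizer (V : Set G) →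
      (∀ l : List G, (∀ e ∈ l, e ∈ K) → l.length = n → ∀ u ∈ U, l.foldr (fun e y => ⁅e, y⁆) u ∈ V) →
      Cfsg.iterCommutator U K n ≤ V
  | 0, V, _, _, _, h => by
    rw [iterCommutator_zero]
    exact fun u hu => h [] (by simp) rfl u hu
  | n + 1, V, hVU, hUU, hKV, h => by
    have hUV : ∀ y ∈ U, ∀ v ∈ V, y * v * y⁻¹ ∈ V := fun y hy v hv => by
      rw [show y * v * y⁻¹ = ⁅y, v⁆ * v by simp only [commutatorElement_def]; group]
      exact V.mul_mem (hUU (Subgroup.commutator_mem_commutator hy (hVU hv))) hv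
    let V' : Subgroup G :=
      { carrier := {y | y ∈ U ∧ ∀ e ∈ K, ⁅e, y⁆ ∈ V}
        one_mem' := ⟨U.one_mem, fun e _ => by rw [commutatorElement_one_right]; exact V.one_mem⟩
        mul_mem' := fun {y z} hy hz => ⟨U.mul_mem hy.1 hz.1, fun e he => by
          rw [comm_mul_right']
          exact V.mul_mem (hy.2 e he) (hUV y hy.1 _ (hz.2 e he))⟩
        inv_mem' := fun {y} hy => ⟨U.inv_mem hy.1, fun e he => by
          rw [show ⁅e, y⁻¹⁆ = y⁻¹ * ⁅e, y⁆⁻¹ * y⁻¹⁻¹ by simp only [commutatorElement_def]; group]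
          exact hUV _ (U.inv_mem hy.1) _ (V.inv_mem (hy.2 e he))⟩ }
    have hV'U : V' ≤ U := fun y hy => hy.1
    have hVV' : V ≤ V' := fun v hv => ⟨hVU hv, fun e he => comm_mem_of_normalizer (hKV he) hv⟩
    have hconj : ∀ b ∈ K, ∀ y ∈ V', b * y * b⁻¹ ∈ V' := fun b hb y hy =>
      ⟨(Subgroup.mem_normalizer_iff.1 (hKU hb) y).1 hy.1, fun e he => by
        rw [show ⁅e, b * y * b⁻¹⁆ = b * ⁅b⁻¹ * e * b, y⁆ * b⁻¹ by simp only [commutatorElement_def]; group]
        exact (Subgroup.mem_normalizer_iff.1 (hKV hb) _).1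
          (hy.2 _ (K.mul_mem (K.mul_mem (K.inv_mem hb) he) hb))⟩
    have hKV' : K ≤ Subgroup.normalizer (V' : Set G) := fun b hb => by
      refine Subgroup.mem_normalizer_iff.2 fun y => ⟨hconj b hb y, fun hy => ?_⟩
      have := hconj b⁻¹ (K.inv_mem hb) _ hy
      rwa [show b⁻¹ * (b * y * b⁻¹) * b⁻¹⁻¹ = y by group] at this
    have hfold : ∀ (l : List G), (∀ e ∈ l, e ∈ K) → ∀ u ∈ U, l.foldr (fun e y => ⁅e, y⁆) u ∈ U := by
      intro l hl u hu
      induction l with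
      | nil => exact hu
      | cons e l ih =>
        exact comm_mem_of_normalizer (hKU (hl e List.mem_cons_self))
          (ih fun x hx => hl x (List.mem_cons_of_mem e hx))
    have ih := iterCommutator_le_of_forall hKU n V' hV'U (hUU.trans hVV') hKV' fun l hl hlen u hu =>
      ⟨hfold l hl u hu, fun e he => h (e :: l)
        (fun x hx => (List.mem_cons.1 hx).elim (fun hxe => hxe ▸ he) (hl x)) (by simp [hlen]) u hu⟩
    rw [iterCommutator_succ]
    refine Subgroup.commutator_le.2 fun y hy e he => ?_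
    rw [← commutatorElement_inv]
    exact V.inv_mem ((ih hy).2 e he)

/-- In a `p`-subgroup `T`, a non-empty set avoiding `1` has a member all of whose commutators with `T`
lie outside it. -/
theorem exists_forall_comm_notMem [Finite G] {p : ℕ} [Fact p.Prime] {T : Subgroup G} (hT : IsPGroup p T)
    {S' : Set G} (hsub : S' ⊆ T) (h1 : (1 : G) ∉ S') (hne : S'.Nonempty) :
    ∃ y ∈ S', ∀ f ∈ T, ⁅f, y⁆ ∉ S' := by
  haveI : Group.IsNilpotent T := hT.isNilpotent
  obtain ⟨n, hn⟩ := (Subgroup.isNilpotent_iff_lowerCentralSeries T).1 inferInstance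
  by_contra hno
  push Not at hno
  have key : ∀ k, ∃ y ∈ S', y ∈ T.lowerCentralSeries k := by
    intro k
    induction k with
    | zero => obtain ⟨y, hy⟩ := hne; exact ⟨y, hy, hsub hy⟩
    | succ k ih =>
      obtain ⟨y, hy, hyk⟩ := ih
      obtain ⟨f, hf, hfy⟩ := hno y hy
      refine ⟨_, hfy, ?_⟩
      rw [Subgroup.lowerCentralSeries_succ, ← commutatorElement_inv]
      exact Subgroup.inv_mem _ (Subgroup.commutator_mem_commutator hyk hf)
  obtain ⟨y, hy, hyn⟩ := key n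
  rw [hn, Subgroup.mem_bot] at hyn
  exact h1 (hyn ▸ hy)

theorem eq_bot_of_le_commutator [Finite G] {p : ℕ} [Fact p.Prime] {T M A : Subgroup G} (hT : IsPGroup p T)
    (hMT : M ≤ T) (hAT : A ≤ T) (h : M ≤ ⁅M, A⁆) : M = ⊥ := by
  haveI : Group.IsNilpotent T := hT.isNilpotent
  obtain ⟨n, hn⟩ := (Subgroup.isNilpotent_iff_lowerCentralSeries T).1 inferInstance
  have key : ∀ k, M ≤ T.lowerCentralSeries k := by
    intro k
    induction k with
    | zero => exact hMT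
    | succ k ih => exact h.trans (Subgroup.commutator_mono ih hAT)
  exact le_bot_iff.1 (hn ▸ key n)

theorem exists_iterCommutator_eq_bot [Finite G] {p : ℕ} [Fact p.Prime] {T Q A : Subgroup G}
    (hT : IsPGroup p T) (hQT : Q ≤ T) (hAT : A ≤ T) : ∃ n, Cfsg.iterCommutator Q A n = ⊥ := by
  haveI : Group.IsNilpotent T := hT.isNilpotent
  obtain ⟨n, hn⟩ := (Subgroup.isNilpotent_iff_lowerCentralSeries T).1 inferInstance
  have key : ∀ k, Cfsg.iterCommutator Q A k ≤ T.lowerCentralSeries k := by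
    intro k
    induction k with
    | zero => rw [iterCommutator_zero]; exact hQT
    | succ k ih => rw [iterCommutator_succ]; exact Subgroup.commutator_mono ih hAT
  exact ⟨n, le_bot_iff.1 (hn ▸ key n)⟩

/-! ### Largest abelian subgroups -/

variable [Finite G] {T A : Subgroup G}

/-- `|L| |C_A(L)| ≤ |A| |L ∩ C_A(L)|`. -/
theorem card_mul_centralizer_le (hA : IsMaxAbelian T A) {L : Subgroup G} (hLT : L ≤ T)
    (hL : ∀ a ∈ L, ∀ b ∈ L, Commute a b) :
    Nat.card L * Nat.card (A ⊓ Subgroup.centralizer (L : Set G) : Subgroup G) ≤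
      Nat.card A * Nat.card (L ⊓ (A ⊓ Subgroup.centralizer (L : Set G)) : Subgroup G) :=
  (card_mul_card_le _ _).trans (Nat.mul_le_mul_right _ (hA.card_le _ (sup_le hLT (inf_le_left.trans hA.le))
    (isMulCommutative_sup hL (fun _ ha _ hb => comm_of_isMulCommutative hA.comm ha.1 hb.1)
      fun a ha _ hb => (Subgroup.mem_centralizer_iff.1 hb.2 a ha))))

/-- When the bound is attained, `L C_A(L)` is again of largest order. -/
theorem isMaxAbelian_sup (hA : IsMaxAbelian T A) {L : Subgroup G} (hLT : L ≤ T)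
    (hL : ∀ a ∈ L, ∀ b ∈ L, Commute a b)
    (hbest : Nat.card A * Nat.card (L ⊓ (A ⊓ Subgroup.centralizer (L : Set G)) : Subgroup G) ≤
      Nat.card L * Nat.card (A ⊓ Subgroup.centralizer (L : Set G) : Subgroup G)) :
    IsMaxAbelian T (L ⊔ (A ⊓ Subgroup.centralizer (L : Set G))) := by
  have hc : IsMulCommutative ↥(L ⊔ (A ⊓ Subgroup.centralizer (L : Set G))) :=
    isMulCommutative_sup hL (fun _ ha _ hb => comm_of_isMulCommutative hA.comm ha.1 hb.1)
      fun a ha _ hb => (Subgroup.mem_centralizer_iff.1 hb.2 a ha)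
  refine ⟨sup_le hLT (inf_le_left.trans hA.le), hc, fun B hB hBc => (hA.card_le B hB hBc).trans ?_⟩
  exact Nat.le_of_mul_le_mul_right (hbest.trans (card_mul_card_le _ _)) Nat.card_pos

theorem inf_centralizer_eq {L : Subgroup G} (hA : IsMulCommutative A) (hL : ∀ a ∈ L, ∀ b ∈ L, Commute a b) :
    L ⊓ (A ⊓ Subgroup.centralizer (L : Set G)) = A ⊓ L := by
  refine le_antisymm (fun x hx => ⟨hx.2.1, hx.1⟩) fun x hx => ⟨hx.2, hx.1, ?_⟩
  exact Subgroup.mem_centralizer_iff.2 fun y hy => hL y hy x hx.2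

/-- **Thompson's replacement count**, with its surjectivity. -/
theorem gcl_best (hA : IsMaxAbelian T A) {v : G} (hMT : gcl A v ≤ T)
    (hM : ∀ a ∈ gcl A v, ∀ b ∈ gcl A v, Commute a b) :
    Nat.card A * Nat.card (gcl A v ⊓ (A ⊓ Subgroup.centralizer (gcl A v : Set G)) : Subgroup G) ≤
        Nat.card (gcl A v) * Nat.card (A ⊓ Subgroup.centralizer (gcl A v : Set G) : Subgroup G) ∧
      ∀ m ∈ gcl A v, ∃ a ∈ A, m⁻¹ * ⁅a, v⁆ ∈ A := by
  classical
  set M := gcl A v with hMdef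
  set B := A ⊓ Subgroup.centralizer (M : Set G) with hBdef
  have hinf : M ⊓ B = A ⊓ M := inf_centralizer_eq hA.comm hM
  let g : ↥A ⧸ B.subgroupOf A → ↥M ⧸ (A ⊓ M).subgroupOf M := fun q =>
    QuotientGroup.mk ⟨⁅((q.out : A) : G), v⁆, mem_gcl (q.out : A).2⟩
  have hg : Function.Injective g := by
    intro q q' hqq
    have hα : (⁅((q.out : A) : G), v⁆)⁻¹ * ⁅((q'.out : A) : G), v⁆ ∈ A := (QuotientGroup.eq.1 hqq : _).1
    set a : G := ((q.out : A) : G)
    set a' : G := ((q'.out : A) : G)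
    set α : G := (⁅a, v⁆)⁻¹ * ⁅a', v⁆ with hαdef
    have haA : a ∈ A := (q.out : A).2
    have ha'A : a' ∈ A := (q'.out : A).2
    have hαM : α ∈ M := M.mul_mem (M.inv_mem (mem_gcl haA)) (mem_gcl ha'A)
    rw [← q.out_eq', ← q'.out_eq', QuotientGroup.eq]
    refine Subgroup.mem_subgroupOf.2 ?_
    show a⁻¹ * a' ∈ B
    set c := a⁻¹ * a' with hcdef
    have hcA : c ∈ A := A.mul_mem (A.inv_mem haA) ha'A
    have hcv : ⁅c, v⁆ = α := by
      have h1 : ⁅a', v⁆ = a * ⁅c, v⁆ * a⁻¹ * ⁅a, v⁆ := by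
        rw [hcdef]; simp only [commutatorElement_def]; group
      have h2 : a * ⁅c, v⁆ * a⁻¹ = α := by
        have h3 : ⁅a', v⁆ = α * ⁅a, v⁆ := by
          rw [(hM α hαM _ (mem_gcl haA)).eq, hαdef, mul_inv_cancel_left]
        exact mul_right_cancel (h1.symm.trans h3)
      calc ⁅c, v⁆ = a⁻¹ * (a * ⁅c, v⁆ * a⁻¹) * a := by group
        _ = a⁻¹ * (α * a) := by rw [h2]; group
        _ = α := by rw [(comm_of_isMulCommutative hA.comm hα haA).eq, inv_mul_cancel_left]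
    refine ⟨hcA, ?_⟩
    have hle : M ≤ Subgroup.centralizer ({c} : Set G) := gcl_le fun d hd => by
      refine Subgroup.mem_centralizer_singleton_iff.2 ?_
      have h1 : ⁅c * d, v⁆ = c * ⁅d, v⁆ * c⁻¹ * ⁅c, v⁆ := by simp only [commutatorElement_def]; group
      have h2 : ⁅d * c, v⁆ = d * ⁅c, v⁆ * d⁻¹ * ⁅d, v⁆ := by simp only [commutatorElement_def]; group
      rw [(comm_of_isMulCommutative hA.comm hcA hd).eq, h2, hcv,
        (comm_of_isMulCommutative hA.comm hd hα).eq, mul_inv_cancel_right,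
        (hM α hαM _ (mem_gcl hd)).eq] at h1
      calc ⁅d, v⁆ * c = c * ⁅d, v⁆ * c⁻¹ * c := by rw [← mul_right_cancel h1]
        _ = c * ⁅d, v⁆ := by group
    exact Subgroup.mem_centralizer_iff.2 fun m hm => Subgroup.mem_centralizer_singleton_iff.1 (hle hm)
  have h1 : Nat.card A = Nat.card (↥A ⧸ B.subgroupOf A) * Nat.card B := by
    rw [Subgroup.card_eq_card_quotient_mul_card_subgroup (B.subgroupOf A),
      Nat.card_congr (Subgroup.subgroupOfEquivOfLe (inf_le_left : B ≤ A)).toEquiv]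
  have h2 : Nat.card M = Nat.card (↥M ⧸ (A ⊓ M).subgroupOf M) * Nat.card (A ⊓ M : Subgroup G) := by
    rw [Subgroup.card_eq_card_quotient_mul_card_subgroup ((A ⊓ M).subgroupOf M),
      Nat.card_congr (Subgroup.subgroupOfEquivOfLe (inf_le_right : A ⊓ M ≤ M)).toEquiv]
  have hq := Nat.card_le_card_of_injective g hg
  refine ⟨?_, fun m hm => ?_⟩
  · rw [hinf, h1, h2]
    calc Nat.card (↥A ⧸ B.subgroupOf A) * Nat.card B * Nat.card (A ⊓ M : Subgroup G)
        ≤ Nat.card (↥M ⧸ (A ⊓ M).subgroupOf M) * Nat.card B * Nat.card (A ⊓ M : Subgroup G) :=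
          Nat.mul_le_mul_right _ (Nat.mul_le_mul_right _ hq)
      _ = _ := by ring
  · have hbound := card_mul_centralizer_le hA hMT hM
    rw [← hBdef, hinf, h1, h2] at hbound
    have hq' : Nat.card (↥M ⧸ (A ⊓ M).subgroupOf M) ≤ Nat.card (↥A ⧸ B.subgroupOf A) := by
      refine Nat.le_of_mul_le_mul_right ?_
        (Nat.mul_pos (Nat.card_pos (α := B)) (Nat.card_pos (α := (A ⊓ M : Subgroup G))))
      calc Nat.card (↥M ⧸ (A ⊓ M).subgroupOf M) * (Nat.card B * Nat.card (A ⊓ M : Subgroup G))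
          = Nat.card (↥M ⧸ (A ⊓ M).subgroupOf M) * Nat.card (A ⊓ M : Subgroup G) * Nat.card B := by ring
        _ ≤ Nat.card (↥A ⧸ B.subgroupOf A) * Nat.card B * Nat.card (A ⊓ M : Subgroup G) := hbound
        _ = _ := by ring
    obtain ⟨q, hq⟩ := (hg.bijective_of_nat_card_le hq').2 (QuotientGroup.mk ⟨m, hm⟩)
    refine ⟨((q.out : A) : G), (q.out : A).2, ?_⟩
    have h3 : (⁅((q.out : A) : G), v⁆)⁻¹ * m ∈ A := (QuotientGroup.eq.1 hq : _).1
    have := A.inv_mem h3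
    rwa [mul_inv_rev, inv_inv] at this

/-! ### The setting -/

/-- A maximal normal abelian subgroup `X` of `G` inside `O_p(G)`, and an abelian subgroup `A` of largest
order of `T`, outside `O_p(G)`, meeting `X` and then `C_{O_p(G)}(X)` in as large a subgroup as possible. -/
structure Data (p : ℕ) (T A X : Subgroup G) : Prop where
  pT : IsPGroup p T
  PT : Cfsg.pCore p G ≤ T
  max : IsMaxAbelian T A
  out : ¬ A ≤ Cfsg.pCore p G
  normal : X.Normal
  le : X ≤ Cfsg.pCore p G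
  comm : ∀ a ∈ X, ∀ b ∈ X, Commute a b
  maxX : ∀ Y : Subgroup G, Y.Normal → Y ≤ Cfsg.pCore p G → (∀ a ∈ Y, ∀ b ∈ Y, Commute a b) → X ≤ Y → Y ≤ X
  lex : ∀ A' : Subgroup G, IsMaxAbelian T A' → ¬ A' ≤ Cfsg.pCore p G → A ⊓ X ≤ A' →
    A' ⊓ X ≤ A ∧ (A ⊓ (Cfsg.pCore p G ⊓ Subgroup.centralizer (X : Set G)) ≤ A' →
      A' ⊓ (Cfsg.pCore p G ⊓ Subgroup.centralizer (X : Set G)) ≤ A)

theorem exists_data {p : ℕ} (hT : IsPGroup p T) (hPT : Cfsg.pCore p G ≤ T)
    {A₀ : Subgroup G} (hA₀ : IsMaxAbelian T A₀) (hout : ¬ A₀ ≤ Cfsg.pCore p G) :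
    ∃ A X : Subgroup G, Data p T A X := by
  obtain ⟨X, ⟨hXn, hXP, hXc⟩, hXmax⟩ := Set.Finite.exists_maximal
    (Set.toFinite {Y : Subgroup G | Y.Normal ∧ Y ≤ Cfsg.pCore p G ∧ ∀ a ∈ Y, ∀ b ∈ Y, Commute a b})
    ⟨⊥, inferInstance, bot_le, fun a ha b _ => by rw [Subgroup.mem_bot.1 ha]; exact Commute.one_left b⟩
  obtain ⟨A₁, hA₁, hmax₁⟩ := Set.exists_max_image {B : Subgroup G | IsMaxAbelian T B ∧ ¬ B ≤ Cfsg.pCore p G}
    (fun B => Nat.card (B ⊓ X : Subgroup G)) (Set.toFinite _) ⟨A₀, hA₀, hout⟩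
  obtain ⟨A, ⟨hA, hAo, hAe⟩, hmax₂⟩ := Set.exists_max_image
    {B : Subgroup G | IsMaxAbelian T B ∧ ¬ B ≤ Cfsg.pCore p G ∧
      Nat.card (A₁ ⊓ X : Subgroup G) ≤ Nat.card (B ⊓ X : Subgroup G)}
    (fun B => Nat.card (B ⊓ (Cfsg.pCore p G ⊓ Subgroup.centralizer (X : Set G)) : Subgroup G))
    (Set.toFinite _) ⟨A₁, hA₁.1, hA₁.2, le_rfl⟩
  refine ⟨A, X, hT, hPT, hA, hAo, hXn, hXP, hXc, fun Y h1 h2 h3 h4 => hXmax ⟨h1, h2, h3⟩ h4,
    fun A' hA' hA'o hle => ?_⟩
  have h1 : A ⊓ X ≤ A' ⊓ X := le_inf hle inf_le_right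
  have h2 := Subgroup.eq_of_le_of_card_ge h1 ((hmax₁ A' ⟨hA', hA'o⟩).trans hAe)
  refine ⟨h2.ge.trans inf_le_left, fun hR => ?_⟩
  have h3 := Subgroup.eq_of_le_of_card_ge (le_inf hR inf_le_right)
    (hmax₂ A' ⟨hA', hA'o, hAe.trans (card_le_card h1)⟩)
  exact h3.ge.trans inf_le_left

namespace Data

variable {p : ℕ} {X : Subgroup G}

/-- `C_P(X)`. -/
abbrev R (p : ℕ) (X : Subgroup G) : Subgroup G := Cfsg.pCore p G ⊓ Subgroup.centralizer (X : Set G)

/-- The elements of `C_P(X)` central in `P` modulo `X`. -/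
abbrev Q (p : ℕ) (X : Subgroup G) : Subgroup G := R p X ⊓ commKer (Cfsg.pCore p G) X

variable [Fact p.Prime] (h : Data p T A X)
include h

theorem X_le_R : X ≤ R p X := le_inf h.le fun x hx =>
  Subgroup.mem_centralizer_iff.2 fun y hy => h.comm y hy x hx

theorem XT : X ≤ T := h.le.trans h.PT

theorem hX_norm (e : G) : e ∈ Subgroup.normalizer (X : Set G) := by
  haveI := h.normal
  rw [Subgroup.normalizer_eq_top]; exact Subgroup.mem_top e

theorem comm_X {e y : G} (hy : y ∈ X) : ⁅e, y⁆ ∈ X := comm_mem_of_normalizer (h.hX_norm e) hy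

theorem X_le_Q : X ≤ Q p X := by
  haveI := h.normal
  refine le_inf h.X_le_R fun x hx => mem_commKer.2 fun u _ => ?_
  rw [← commutatorElement_inv]
  exact X.inv_mem (h.comm_X hx)

theorem commA {a b : G} (ha : a ∈ A) (hb : b ∈ A) : Commute a b := comm_of_isMulCommutative h.max.comm ha hb

/-- The key step: a replacement inside `C_P(X)` not contained in `A` has centralizer in `A` inside `P`. -/
theorem centralizer_le {L : Subgroup G} (hLR : L ≤ R p X) (hL : ∀ a ∈ L, ∀ b ∈ L, Commute a b)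
    (hLA : ¬ L ≤ A) (hcent : A ⊓ R p X ≤ Subgroup.centralizer (L : Set G))
    (hbest : Nat.card A * Nat.card (L ⊓ (A ⊓ Subgroup.centralizer (L : Set G)) : Subgroup G) ≤
      Nat.card L * Nat.card (A ⊓ Subgroup.centralizer (L : Set G) : Subgroup G)) :
    A ⊓ Subgroup.centralizer (L : Set G) ≤ Cfsg.pCore p G := by
  have hLT : L ≤ T := (hLR.trans inf_le_left).trans h.PT
  set A' := L ⊔ (A ⊓ Subgroup.centralizer (L : Set G)) with hA'
  have hmax := isMaxAbelian_sup h.max hLT hL hbest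
  by_contra hB
  have hout : ¬ A' ≤ Cfsg.pCore p G := fun hh => hB (le_sup_right.trans hh)
  have hRA : A ⊓ R p X ≤ A' := fun x hx => Subgroup.mem_sup_right ⟨hx.1, hcent hx⟩
  have hXA : A ⊓ X ≤ A' := fun x hx => hRA ⟨hx.1, h.X_le_R hx.2⟩
  exact hLA fun x hx => (h.lex A' hmax hout hXA).2 hRA ⟨Subgroup.mem_sup_left hx, hLR hx⟩

theorem gcl_le_X {v : G} (hv : v ∈ X) : gcl A v ≤ X := gcl_le fun _ _ => h.comm_X hv

theorem gclX_comm {v : G} (hv : v ∈ X) : ∀ a ∈ gcl A v, ∀ b ∈ gcl A v, Commute a b := fun a ha b hb =>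
  h.comm a (h.gcl_le_X hv ha) b (h.gcl_le_X hv hb)

theorem centralizer_gcl_le {v : G} (hv : v ∈ X) (hM : ¬ gcl A v ≤ A) :
    A ⊓ Subgroup.centralizer (gcl A v : Set G) ≤ Cfsg.pCore p G := by
  have hMX := h.gcl_le_X hv
  refine h.centralizer_le (hMX.trans h.X_le_R) (h.gclX_comm hv) hM (fun x hx => ?_)
    (gcl_best h.max (hMX.trans h.XT) (h.gclX_comm hv)).1
  exact Subgroup.mem_centralizer_iff.2 fun m hm => Subgroup.mem_centralizer_iff.1 hx.2.2 m (hMX hm)

theorem hom_X (e : G) {y z : G} (hy : y ∈ X) (hz : z ∈ X) : ⁅e, y * z⁆ = ⁅e, y⁆ * ⁅e, z⁆ :=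
  comm_mul_right (h.comm _ (h.comm_X hz) y hy)

theorem swap_X {e f y : G} (he : e ∈ A) (hf : f ∈ A) (hy : y ∈ X) : ⁅e, ⁅f, y⁆⁆ = ⁅f, ⁅e, y⁆⁆ :=
  comm_comm_eq (h.commA he hf) (h.comm _ (h.comm_X hy) _ (h.comm_X hy))

/-- On `X`, a product of two steps is one step by an element of `A ∩ P`, up to `A`. -/
theorem two_steps {v a d : G} (hv : v ∈ X) (ha : a ∈ A) (hd : d ∈ A) :
    ∃ b ∈ A, b ∈ Cfsg.pCore p G ∧ ∀ f ∈ A, ⁅f, ⁅d, ⁅a, v⁆⁆⁆ = ⁅f, ⁅b, v⁆⁆ := by
  by_cases hA2 : ⁅d, ⁅a, v⁆⁆ ∈ A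
  · refine ⟨1, A.one_mem, Subgroup.one_mem _, fun f hf => ?_⟩
    rw [commutatorElement_one_left, commutatorElement_one_right, commutatorElement_eq_one_iff_commute]
    exact h.commA hf hA2
  have hMX := h.gcl_le_X hv
  have hm : ⁅d, ⁅a, v⁆⁆ ∈ gcl A v := comm_mem_of_normalizer (gcl_normalized A v hd) (mem_gcl ha)
  obtain ⟨b, hb, hbm⟩ := (gcl_best h.max (hMX.trans h.XT) (h.gclX_comm hv)).2 _ hm
  have hbeq : ∀ f ∈ A, ⁅f, ⁅d, ⁅a, v⁆⁆⁆ = ⁅f, ⁅b, v⁆⁆ := by
    intro f hf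
    conv_rhs => rw [show ⁅b, v⁆ = ⁅d, ⁅a, v⁆⁆ * (⁅d, ⁅a, v⁆⁆⁻¹ * ⁅b, v⁆) by rw [mul_inv_cancel_left]]
    rw [h.hom_X f (hMX hm) (X.mul_mem (X.inv_mem (hMX hm)) (h.comm_X hv)),
      commutatorElement_eq_one_iff_commute.2 (h.commA hf hbm), mul_one]
  refine ⟨b, hb, ?_, hbeq⟩
  -- a member of `gcl A v` with a nontrivial gain, of deepest level
  obtain ⟨y, ⟨hyM, hyA⟩, hylast⟩ := exists_forall_comm_notMem h.pT
    (S' := {y | y ∈ gcl A v ∧ ¬ gcl A y ≤ A}) (fun y hy => h.XT (hMX hy.1))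
    (fun h1 => h1.2 (gcl_le fun e _ => by rw [commutatorElement_one_right]; exact A.one_mem))
    ⟨⁅a, v⁆, mem_gcl ha, fun hh => hA2 (hh (mem_gcl hd))⟩
  refine h.centralizer_gcl_le (hMX hyM) hyA ⟨hb, ?_⟩
  have hagree : ∀ m ∈ gcl A v, ⁅b, m⁆ = ⁅d, ⁅a, m⁆⁆ := by
    intro m hm'
    induction hm' using Subgroup.closure_induction with
    | mem m hm' =>
      obtain ⟨e, he, rfl⟩ := hm'
      show ⁅b, ⁅e, v⁆⁆ = ⁅d, ⁅a, ⁅e, v⁆⁆⁆
      rw [h.swap_X hb he hv, ← hbeq e he, h.swap_X he hd (h.comm_X hv), h.swap_X he ha hv]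
    | one => simp only [commutatorElement_one_right]
    | mul y z hy hz iy iz =>
      have hyX : y ∈ X := hMX hy
      have hzX : z ∈ X := hMX hz
      rw [h.hom_X b hyX hzX, iy, iz, h.hom_X a hyX hzX, h.hom_X d (h.comm_X hyX) (h.comm_X hzX)]
    | inv y hy iy =>
      have hyX : y ∈ X := hMX hy
      have hinv : ∀ (e : G) {w : G}, w ∈ X → ⁅e, w⁻¹⁆ = ⁅e, w⁆⁻¹ := fun e w hw => by
        refine eq_inv_of_mul_eq_one_left ?_
        rw [← h.hom_X e (X.inv_mem hw) hw, inv_mul_cancel, commutatorElement_one_right]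
      rw [hinv b hyX, iy, hinv a hyX, hinv d (h.comm_X hyX)]
  have hyX : y ∈ X := hMX hyM
  have hle : gcl A y ≤ Subgroup.centralizer ({b} : Set G) := gcl_le fun e he => by
    refine Subgroup.mem_centralizer_singleton_iff.2 ?_
    have h1 : ⁅b, ⁅e, y⁆⁆ = 1 := by
      rw [h.swap_X hb he hyX, hagree y hyM, h.swap_X he hd (h.comm_X hyX)]
      have h2 : gcl A ⁅a, y⁆ ≤ A := by
        by_contra hh
        exact hylast a (h.max.le ha) ⟨comm_mem_of_normalizer (gcl_normalized A v ha) hyM, hh⟩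
      exact commutatorElement_eq_one_iff_commute.2 (h.commA hd (h2 (mem_gcl he)))
    exact (commutatorElement_eq_one_iff_commute.1 h1).symm
  exact Subgroup.mem_centralizer_iff.2 fun m hm' => Subgroup.mem_centralizer_singleton_iff.1 (hle hm')

/-- Subgroups of `X` on which the replacement bound is attained. -/
def Best (A X L : Subgroup G) : Prop :=
  A ⊓ X ≤ L ∧ L ≤ X ∧
    Nat.card A * Nat.card (A ⊓ X : Subgroup G) ≤
      Nat.card L * Nat.card (A ⊓ Subgroup.centralizer (L : Set G) : Subgroup G)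

theorem inf_cent_X {L : Subgroup G} (h1 : A ⊓ X ≤ L) (h2 : L ≤ X) :
    L ⊓ (A ⊓ Subgroup.centralizer (L : Set G)) = A ⊓ X := by
  rw [inf_centralizer_eq h.max.comm fun a ha b hb => h.comm a (h2 ha) b (h2 hb)]
  exact le_antisymm (inf_le_inf_left A h2) (le_inf inf_le_left h1)

theorem best_sup {L₁ L₂ : Subgroup G} (h1 : Best A X L₁) (h2 : Best A X L₂) : Best A X (L₁ ⊔ L₂) := by
  refine ⟨h1.1.trans le_sup_left, sup_le h1.2.1 h2.2.1, ?_⟩
  set B₁ := A ⊓ Subgroup.centralizer (L₁ : Set G)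
  set B₂ := A ⊓ Subgroup.centralizer (L₂ : Set G)
  set B := A ⊓ Subgroup.centralizer ((L₁ ⊔ L₂ : Subgroup G) : Set G)
  set B' := A ⊓ Subgroup.centralizer ((L₁ ⊓ L₂ : Subgroup G) : Set G)
  have hB : B = B₁ ⊓ B₂ := by
    show A ⊓ _ = _
    rw [centralizer_sup, inf_inf_distrib_left]
  have hB' : B₁ ⊔ B₂ ≤ B' := sup_le (inf_le_inf_left A (Subgroup.centralizer_le fun _ hx => hx.1))
    (inf_le_inf_left A (Subgroup.centralizer_le fun _ hx => hx.2))
  have hL' : L₁ ⊓ L₂ ≤ X := inf_le_left.trans h1.2.1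
  have hb := card_mul_centralizer_le h.max (hL'.trans h.XT) fun a ha b hb => h.comm a (hL' ha) b (hL' hb)
  rw [h.inf_cent_X (le_inf h1.1 h2.1) hL'] at hb
  have hc1 := card_mul_card_le L₁ L₂
  have hc2 := card_mul_card_le B₁ B₂
  have hc3 := card_le_card hB'
  refine Nat.le_of_mul_le_mul_right ?_ (Nat.mul_pos (Nat.card_pos (α := A))
    (Nat.card_pos (α := (A ⊓ X : Subgroup G))))
  calc Nat.card A * Nat.card (A ⊓ X : Subgroup G) * (Nat.card A * Nat.card (A ⊓ X : Subgroup G))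
      ≤ (Nat.card L₁ * Nat.card B₁) * (Nat.card L₂ * Nat.card B₂) := Nat.mul_le_mul h1.2.2 h2.2.2
    _ = (Nat.card L₁ * Nat.card L₂) * (Nat.card B₁ * Nat.card B₂) := by ring
    _ ≤ (Nat.card (L₁ ⊔ L₂ : Subgroup G) * Nat.card (L₁ ⊓ L₂ : Subgroup G)) *
        (Nat.card (B₁ ⊔ B₂ : Subgroup G) * Nat.card (B₁ ⊓ B₂ : Subgroup G)) := Nat.mul_le_mul hc1 hc2
    _ ≤ (Nat.card (L₁ ⊔ L₂ : Subgroup G) * Nat.card (L₁ ⊓ L₂ : Subgroup G)) *
        (Nat.card B' * Nat.card (B₁ ⊓ B₂ : Subgroup G)) :=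
      Nat.mul_le_mul_left _ (Nat.mul_le_mul_right _ hc3)
    _ = (Nat.card (L₁ ⊔ L₂ : Subgroup G) * Nat.card B) *
        (Nat.card (L₁ ⊓ L₂ : Subgroup G) * Nat.card B') := by rw [hB]; ring
    _ ≤ _ := Nat.mul_le_mul_left _ hb

theorem best_gcl {v : G} (hv : v ∈ X) : Best A X (gcl A v ⊔ A ⊓ X) := by
  have hMX := h.gcl_le_X hv
  refine ⟨le_sup_right, sup_le hMX inf_le_right, ?_⟩
  have hb := (gcl_best h.max (hMX.trans h.XT) (h.gclX_comm hv)).1
  have hinf : gcl A v ⊓ (A ⊓ Subgroup.centralizer (gcl A v : Set G)) = A ⊓ gcl A v :=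
    inf_centralizer_eq h.max.comm (h.gclX_comm hv)
  rw [hinf] at hb
  have hc : A ⊓ Subgroup.centralizer ((gcl A v ⊔ A ⊓ X : Subgroup G) : Set G) =
      A ⊓ Subgroup.centralizer (gcl A v : Set G) := by
    rw [centralizer_sup]
    refine le_antisymm (inf_le_inf_left A inf_le_left) (le_inf inf_le_left (le_inf inf_le_right fun x hx => ?_))
    exact Subgroup.mem_centralizer_iff.2 fun y hy => h.commA hy.1 hx.1
  have hi : gcl A v ⊓ (A ⊓ X) = A ⊓ gcl A v :=
    le_antisymm (le_inf (inf_le_right.trans inf_le_left) inf_le_left)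
      (le_inf inf_le_right (inf_le_inf_left A hMX))
  have hc1 := card_mul_card_le (gcl A v) (A ⊓ X)
  rw [hi] at hc1
  rw [hc]
  refine Nat.le_of_mul_le_mul_right ?_ (Nat.card_pos (α := (A ⊓ gcl A v : Subgroup G)))
  calc Nat.card A * Nat.card (A ⊓ X : Subgroup G) * Nat.card (A ⊓ gcl A v : Subgroup G)
      = Nat.card A * Nat.card (A ⊓ gcl A v : Subgroup G) * Nat.card (A ⊓ X : Subgroup G) := by ring
    _ ≤ Nat.card (gcl A v) * Nat.card (A ⊓ Subgroup.centralizer (gcl A v : Set G) : Subgroup G) *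
        Nat.card (A ⊓ X : Subgroup G) := Nat.mul_le_mul_right _ hb
    _ = Nat.card (gcl A v) * Nat.card (A ⊓ X : Subgroup G) *
        Nat.card (A ⊓ Subgroup.centralizer (gcl A v : Set G) : Subgroup G) := by ring
    _ ≤ Nat.card (gcl A v ⊔ A ⊓ X : Subgroup G) * Nat.card (A ⊓ gcl A v : Subgroup G) *
        Nat.card (A ⊓ Subgroup.centralizer (gcl A v : Set G) : Subgroup G) := Nat.mul_le_mul_right _ hc1
    _ = _ := by ring

theorem mem_Q_X {e x : G} (he : e ∈ Cfsg.pCore p G) (hx : x ∈ Q p X) : ⁅e, x⁆ ∈ X := by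
  haveI := h.normal
  rw [← commutatorElement_inv]
  exact X.inv_mem (mem_commKer.1 hx.2 e he)

theorem Q_central {x z : G} (hz : z ∈ X) (hx : x ∈ Q p X) : Commute z x :=
  Subgroup.mem_centralizer_iff.1 hx.1.2 z hz

theorem Q_normal : (Q p X).Normal := by
  haveI := h.normal
  infer_instance

theorem Q_norm (e : G) : e ∈ Subgroup.normalizer (Q p X : Set G) := by
  haveI := h.Q_normal
  rw [Subgroup.normalizer_eq_top]; exact Subgroup.mem_top e

theorem comm_Q {e x : G} (hx : x ∈ Q p X) : ⁅e, x⁆ ∈ Q p X := comm_mem_of_normalizer (h.Q_norm e) hx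

/-- An element of `A ∩ P` and an element of `A` commute as operators on `Q`. -/
theorem swap_Q {e f x : G} (he : e ∈ A) (heP : e ∈ Cfsg.pCore p G) (hf : f ∈ A) (hx : x ∈ Q p X) :
    ⁅e, ⁅f, x⁆⁆ = ⁅f, ⁅e, x⁆⁆ :=
  comm_comm_eq (h.commA he hf) (h.Q_central (h.mem_Q_X heP hx) (h.comm_Q hx)).symm

/-- In the case of a gain inside `X`, `A` acts on `Q/X` with degree at most four. -/
theorem four_steps (hcubic : ∃ v ∈ X, ¬ gcl A v ≤ A) {x a c d f : G} (hx : x ∈ Q p X) (ha : a ∈ A)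
    (hc : c ∈ A) (hd : d ∈ A) (hf : f ∈ A) : ⁅f, ⁅d, ⁅c, ⁅a, x⁆⁆⁆⁆ ∈ X := by
  haveI := h.normal
  obtain ⟨Ls, hLs, hmaxL⟩ := Set.Finite.exists_maximal (Set.toFinite {L : Subgroup G | Best A X L})
    (by obtain ⟨v, hv, -⟩ := hcubic; exact ⟨_, h.best_gcl hv⟩)
  have habs : ∀ v ∈ X, gcl A v ≤ Ls := fun v hv =>
    (le_sup_left.trans (le_sup_right : gcl A v ⊔ A ⊓ X ≤ Ls ⊔ (gcl A v ⊔ A ⊓ X))).trans
      (hmaxL (h.best_sup hLs (h.best_gcl hv)) le_sup_left)
  have hLc : ∀ a ∈ Ls, ∀ b ∈ Ls, Commute a b := fun a ha b hb => h.comm a (hLs.2.1 ha) b (hLs.2.1 hb)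
  have hbest : Nat.card A * Nat.card (Ls ⊓ (A ⊓ Subgroup.centralizer (Ls : Set G)) : Subgroup G) ≤
      Nat.card Ls * Nat.card (A ⊓ Subgroup.centralizer (Ls : Set G) : Subgroup G) := by
    rw [h.inf_cent_X hLs.1 hLs.2.1]; exact hLs.2.2
  set B := A ⊓ Subgroup.centralizer (Ls : Set G) with hBdef
  have hBP : B ≤ Cfsg.pCore p G := by
    refine h.centralizer_le (hLs.2.1.trans h.X_le_R) hLc ?_ (fun z hz => ?_) hbest
    · obtain ⟨v, hv, hvA⟩ := hcubic
      exact fun hh => hvA ((habs v hv).trans hh)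
    · exact Subgroup.mem_centralizer_iff.2 fun m hm => Subgroup.mem_centralizer_iff.1 hz.2.2 m (hLs.2.1 hm)
  have hmax := isMaxAbelian_sup h.max (hLs.2.1.trans h.XT) hLc hbest
  rw [← hBdef] at hmax
  have hwQ : ⁅d, ⁅c, ⁅a, x⁆⁆⁆ ∈ Q p X := h.comm_Q (h.comm_Q (h.comm_Q hx))
  -- `B` centralises the element
  have hwB : ∀ e ∈ B, ⁅e, ⁅d, ⁅c, ⁅a, x⁆⁆⁆⁆ = 1 := by
    intro e he
    have hz : ⁅e, x⁆ ∈ X := h.mem_Q_X (hBP he) hx
    rw [h.swap_Q he.1 (hBP he) hd (h.comm_Q (h.comm_Q hx)), h.swap_Q he.1 (hBP he) hc (h.comm_Q hx),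
      h.swap_Q he.1 (hBP he) ha hx]
    obtain ⟨b, hb, hbP, hbeq⟩ := h.two_steps hz ha hc
    rw [hbeq d hd, h.swap_Q hb hbP he.1 hx, h.swap_X hd he.1 (h.mem_Q_X hbP hx)]
    exact commutatorElement_eq_one_iff_commute.2 (Subgroup.mem_centralizer_iff.1 he.2 _
      (habs _ (h.mem_Q_X hbP hx) (mem_gcl hd))).symm
  set w := ⁅d, ⁅c, ⁅a, x⁆⁆⁆
  have hwT : w ∈ T := h.PT hwQ.1.1
  have hcomm : IsMulCommutative ↥(Subgroup.zpowers w ⊔ (Ls ⊔ B)) := by
    refine isMulCommutative_sup (fun _ ha' _ hb' => comm_of_isMulCommutative inferInstance ha' hb')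
      (fun _ ha' _ hb' => comm_of_isMulCommutative hmax.comm ha' hb') ?_
    rintro _ ⟨j, rfl⟩ b' hb'
    refine Commute.zpow_left ?_ j
    have hle : Ls ⊔ B ≤ Subgroup.centralizer ({w} : Set G) := sup_le
      (fun z hz => Subgroup.mem_centralizer_singleton_iff.2 (h.Q_central (hLs.2.1 hz) hwQ))
      (fun z hz => Subgroup.mem_centralizer_singleton_iff.2 (commutatorElement_eq_one_iff_commute.1 (hwB z hz)))
    exact (Subgroup.mem_centralizer_singleton_iff.1 (hle hb')).symm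
  have hw : w ∈ Ls ⊔ B := by
    have := Subgroup.eq_of_le_of_card_ge (le_sup_right : Ls ⊔ B ≤ Subgroup.zpowers w ⊔ (Ls ⊔ B))
      (hmax.card_le _ (sup_le (Subgroup.zpowers_le.2 hwT) hmax.le) hcomm)
    exact this ▸ Subgroup.mem_sup_left (Subgroup.mem_zpowers w)
  have hle : Ls ⊔ B ≤ X ⊔ A := sup_le (hLs.2.1.trans le_sup_left) (inf_le_left.trans le_sup_right)
  obtain ⟨l, hl, b', hb', he⟩ := Subgroup.mem_sup_of_normal_left.1 (hle hw)
  rw [← he, comm_mul_right', commutatorElement_eq_one_iff_commute.2 (h.commA hf hb'), mul_one,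
    mul_inv_cancel, mul_one]
  exact h.comm_X hl

theorem chief_three {U V : Subgroup G} (hUV : Cfsg.IsChiefFactor U V) (hUX : U ≤ X) :
    Cfsg.iterCommutator U A 3 ≤ V := by
  haveI := hUV.2.1
  haveI := hUV.2.2.1
  have hn : ∀ (N : Subgroup G) [N.Normal], A ≤ Subgroup.normalizer (N : Set G) := fun N _ =>
    Subgroup.normalizer_eq_top (H := N) ▸ le_top
  refine iterCommutator_le_of_forall (hn U) 3 V hUV.1.le ?_ (hn V) ?_
  · exact Subgroup.commutator_le.2 fun u hu v hv => by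
      rw [commutatorElement_eq_one_iff_commute.2 (h.comm u (hUX hu) v (hUX hv))]; exact V.one_mem
  intro l hl hlen u hu
  match l, hlen with
  | [e, d, a], _ =>
    show ⁅e, ⁅d, ⁅a, u⁆⁆⁆ ∈ V
    obtain ⟨b, -, hbP, hbeq⟩ := h.two_steps (hUX hu) (hl a (by simp)) (hl d (by simp))
    rw [hbeq e (hl e (by simp))]
    refine comm_mem_of_normalizer (hn V (hl e (by simp))) ?_
    rw [← commutatorElement_inv]
    exact V.inv_mem (commutator_chiefKernel_le hUV le_rfl (Subgroup.commutator_mem_commutator hu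
      (pCore_le_chiefKernel (hUX.trans h.le) hbP)))

theorem Q_four (hcubic : ∃ v ∈ X, ¬ gcl A v ≤ A) : Cfsg.iterCommutator (Q p X) A 4 ≤ X := by
  refine iterCommutator_le_of_forall (fun e _ => h.Q_norm e) 4 X h.X_le_Q ?_ (fun e _ => h.hX_norm e) ?_
  · exact Subgroup.commutator_le.2 fun u hu v hv => h.mem_Q_X hu.1.1 hv
  intro l hl hlen u hu
  match l, hlen with
  | [f, d, c, a], _ =>
    exact h.four_steps hcubic hu (hl a (by simp)) (hl c (by simp)) (hl d (by simp)) (hl f (by simp))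

theorem quad_X (hquad : ∀ v ∈ X, gcl A v ≤ A) : Cfsg.iterCommutator X A 2 = ⊥ := by
  rw [iterCommutator_succ, iterCommutator_succ, iterCommutator_zero, eq_bot_iff]
  have h1 : ⁅X, A⁆ ≤ A := Subgroup.commutator_le.2 fun v hv a ha => by
    rw [← commutatorElement_inv]; exact A.inv_mem (hquad v hv (mem_gcl ha))
  refine Subgroup.commutator_le.2 fun y hy e he => ?_
  rw [commutatorElement_eq_one_iff_commute.2 (h.commA (h1 hy) he)]
  exact Subgroup.one_mem _

/-- The fixed points of `A` in `X`. -/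
abbrev F (A X : Subgroup G) : Subgroup G := X ⊓ Subgroup.centralizer (A : Set G)

/-- The iterated commutators of `A` on `Q`. -/
abbrev Qk (p : ℕ) (A X : Subgroup G) : ℕ → Subgroup G := Cfsg.iterCommutator (Q p X) A

theorem A_norm_Q : A ≤ Subgroup.normalizer (Q p X : Set G) := fun e _ => h.Q_norm e

theorem Qk_le (k : ℕ) : Qk p A X k ≤ Q p X := iterCommutator_le_start h.A_norm_Q k

theorem Qk_anti : Antitone (Qk p A X) := iterCommutator_antitone h.A_norm_Q

theorem comm_Qk {e y : G} {k : ℕ} (he : e ∈ A) (hy : y ∈ Qk p A X k) : ⁅e, y⁆ ∈ Qk p A X (k + 1) := by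
  show ⁅e, y⁆ ∈ Cfsg.iterCommutator (Q p X) A (k + 1)
  rw [iterCommutator_succ, ← commutatorElement_inv]
  exact Subgroup.inv_mem _ (Subgroup.commutator_mem_commutator hy he)

theorem QQ_le : ⁅Q p X, Q p X⁆ ≤ X := Subgroup.commutator_le.2 fun _ hu _ hv => h.mem_Q_X hu.1.1 hv

theorem XA_le (hquad : ∀ v ∈ X, gcl A v ≤ A) : ⁅X, A⁆ ≤ F A X := by
  refine le_inf (Subgroup.commutator_le.2 fun v hv a _ => by
    rw [← commutatorElement_inv]; exact X.inv_mem (h.comm_X hv)) (Subgroup.commutator_le.2 fun v hv a ha => ?_)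
  refine Subgroup.mem_centralizer_iff.2 fun e he => (h.commA he ?_).eq
  rw [← commutatorElement_inv]
  exact A.inv_mem (hquad v hv (mem_gcl ha))

theorem Q_norm_F : Q p X ≤ Subgroup.normalizer (F A X : Set G) := fun q hq => by
  haveI := h.normal
  have hfix : ∀ z ∈ X, q * z * q⁻¹ = z := fun z hz => by
    rw [← (h.Q_central hz hq).eq, mul_inv_cancel_right]
  refine Subgroup.mem_normalizer_iff.2 fun z => ⟨fun hz => (hfix z hz.1).symm ▸ hz, fun hz => ?_⟩
  have hzX : z ∈ X := by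
    have := (inferInstance : X.Normal).conj_mem _ hz.1 q⁻¹
    rwa [show q⁻¹ * (q * z * q⁻¹) * q⁻¹⁻¹ = z by group] at this
  rwa [hfix z hzX] at hz

theorem A_norm_F : A ≤ Subgroup.normalizer (F A X : Set G) := fun e he => by
  refine Subgroup.mem_normalizer_iff.2 fun z => ⟨fun hz => ?_, fun hz => ?_⟩
  · rw [Subgroup.mem_centralizer_iff.1 hz.2 e he, mul_inv_cancel_right]; exact hz
  · have h1 : z = e⁻¹ * (e * z * e⁻¹) * e := by group
    rw [h1, mul_assoc, ← Subgroup.mem_centralizer_iff.1 hz.2 e he, inv_mul_cancel_left]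
    exact hz

theorem pair_zero {m : ℕ} (hmX : Qk p A X m ≤ X) {s : ℕ} (hs : m ≤ s) (D : Subgroup G) :
    ⁅Qk p A X 0, Qk p A X s⁆ ≤ D :=
  Subgroup.commutator_le.2 fun u hu v hv => by
    rw [commutatorElement_eq_one_iff_commute.2 (h.Q_central (hmX (h.Qk_anti hs hv)) (h.Qk_le 0 hu)).symm]
    exact D.one_mem

theorem pair_F (hquad : ∀ v ∈ X, gcl A v ≤ A) {m : ℕ} (hmX : Qk p A X m ≤ X) :
    ∀ r s, m ≤ r + s → ⁅Qk p A X r, Qk p A X s⁆ ≤ F A X := by
  intro r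
  induction r with
  | zero => exact fun s hs => h.pair_zero hmX (by omega) _
  | succ r ih =>
    intro s hs
    show ⁅Cfsg.iterCommutator (Q p X) A (r + 1), _⁆ ≤ _
    rw [iterCommutator_succ]
    refine commutator_commutator_le_of_rotate ((h.Qk_le r).trans h.Q_norm_F) h.A_norm_F
      ((h.Qk_le s).trans h.Q_norm_F) ?_ ?_
    · rw [Subgroup.commutator_comm A, ← iterCommutator_succ, Subgroup.commutator_comm]
      exact ih (s + 1) (by omega)
    · exact (Subgroup.commutator_mono ((Subgroup.commutator_mono (h.Qk_le s) (h.Qk_le r)).trans h.QQ_le)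
        le_rfl).trans (h.XA_le hquad)

theorem pair_bot (hquad : ∀ v ∈ X, gcl A v ≤ A) {m : ℕ} (hmX : Qk p A X m ≤ X) :
    ∀ r s, m + 1 ≤ r + s → ⁅Qk p A X r, Qk p A X s⁆ ≤ ⊥ := by
  intro r
  induction r with
  | zero => exact fun s hs => h.pair_zero hmX (by omega) _
  | succ r ih =>
    intro s hs
    show ⁅Cfsg.iterCommutator (Q p X) A (r + 1), _⁆ ≤ _
    rw [iterCommutator_succ]
    have hn : ∀ H : Subgroup G, H ≤ Subgroup.normalizer ((⊥ : Subgroup G) : Set G) := fun H => by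
      rw [Subgroup.normalizer_eq_top]; exact le_top
    refine commutator_commutator_le_of_rotate (hn _) (hn _) (hn _) ?_ ?_
    · rw [Subgroup.commutator_comm A, ← iterCommutator_succ, Subgroup.commutator_comm]
      exact ih (s + 1) (by omega)
    · refine (Subgroup.commutator_mono (h.pair_F hquad hmX s r (by omega)) le_rfl).trans ?_
      exact Subgroup.commutator_le.2 fun z hz e he => by
        rw [commutatorElement_eq_one_iff_commute.2 (Subgroup.mem_centralizer_iff.1 hz.2 e he).symm]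
        exact Subgroup.one_mem _

theorem cent_two (hquad : ∀ v ∈ X, gcl A v ≤ A) :
    A ⊓ Cfsg.pCore p G ≤ Subgroup.centralizer (Qk p A X 2 : Set G) := by
  rw [Subgroup.le_centralizer_iff, show Qk p A X 2 = ⁅Qk p A X 1, A⁆ from iterCommutator_succ _ _ 1]
  refine Subgroup.commutator_le.2 fun y hy c hc => Subgroup.mem_centralizer_iff.2 fun e he => ?_
  have hyQ : y ∈ Q p X := h.Qk_le 1 hy
  have h1 : ⁅e, y⁆ ∈ F A X := by
    let K : Subgroup G :=
      { carrier := {y | y ∈ Q p X ∧ ⁅e, y⁆ ∈ F A X}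
        one_mem' := ⟨Subgroup.one_mem _, by rw [commutatorElement_one_right]; exact Subgroup.one_mem _⟩
        mul_mem' := fun {y z} hy hz => ⟨(Q p X).mul_mem hy.1 hz.1, by
          rw [comm_mul_right (h.Q_central (h.mem_Q_X he.2 hz.1) hy.1)]
          exact (F A X).mul_mem hy.2 hz.2⟩
        inv_mem' := fun {y} hy => ⟨(Q p X).inv_mem hy.1, by
          rw [show ⁅e, y⁻¹⁆ = y⁻¹ * ⁅e, y⁆⁻¹ * y by simp only [commutatorElement_def]; group, mul_assoc,
            (h.Q_central (X.inv_mem hy.2.1) hy.1).eq, inv_mul_cancel_left]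
          exact (F A X).inv_mem hy.2⟩ }
    have hle : Qk p A X 1 ≤ K := by
      rw [show Qk p A X 1 = ⁅Q p X, A⁆ by
        show Cfsg.iterCommutator (Q p X) A 1 = _
        rw [iterCommutator_succ, iterCommutator_zero]]
      refine Subgroup.commutator_le.2 fun x hx a ha => ?_
      rw [← commutatorElement_inv]
      refine K.inv_mem ⟨h.comm_Q hx, ?_⟩
      rw [h.swap_Q he.1 he.2 ha hx]
      refine h.XA_le hquad ?_
      rw [← commutatorElement_inv]
      exact Subgroup.inv_mem _ (Subgroup.commutator_mem_commutator (h.mem_Q_X he.2 hx) ha)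
    exact (hle hy).2
  have h2 : ⁅e, ⁅c, y⁆⁆ = 1 := by
    rw [h.swap_Q he.1 he.2 hc hyQ]
    exact commutatorElement_eq_one_iff_commute.2 (Subgroup.mem_centralizer_iff.1 h1.2 c hc)
  rw [← commutatorElement_inv c y]
  exact ((commutatorElement_eq_one_iff_commute.1 h2).inv_right).eq

/-- An element deep in `Q` commuting with an abelian `gcl A y` has all its commutators with `A` in `A`. -/
theorem gcl_le_of_deep (hquad : ∀ v ∈ X, gcl A v ≤ A) {k : ℕ} (hk : 2 ≤ k) {y : G} (hy : y ∈ Qk p A X k)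
    (hMc : ∀ a ∈ gcl A y, ∀ b ∈ gcl A y, Commute a b) (hyM : ∀ z ∈ gcl A y, Commute y z) :
    gcl A y ≤ A := by
  by_contra hM
  have hMk : gcl A y ≤ Qk p A X (k + 1) := gcl_le fun a ha => h.comm_Qk ha hy
  have hMR : gcl A y ≤ R p X := (hMk.trans (h.Qk_le _)).trans inf_le_left
  have hMT : gcl A y ≤ T := (hMR.trans inf_le_left).trans h.PT
  have hbest := (gcl_best h.max hMT hMc).1
  have hcM : A ⊓ Cfsg.pCore p G ≤ Subgroup.centralizer (gcl A y : Set G) :=
    (h.cent_two hquad).trans (Subgroup.centralizer_le (hMk.trans (h.Qk_anti (show 2 ≤ k + 1 by omega))))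
  have hBP : A ⊓ Subgroup.centralizer (gcl A y : Set G) ≤ Cfsg.pCore p G :=
    h.centralizer_le hMR hMc hM ((inf_le_inf_left A inf_le_left).trans hcM) hbest
  have hmax := isMaxAbelian_sup h.max hMT hMc hbest
  set B := A ⊓ Subgroup.centralizer (gcl A y : Set G) with hB
  have hcomm : IsMulCommutative ↥(Subgroup.zpowers y ⊔ (gcl A y ⊔ B)) := by
    refine isMulCommutative_sup (fun _ ha' _ hb' => comm_of_isMulCommutative inferInstance ha' hb')
      (fun _ ha' _ hb' => comm_of_isMulCommutative hmax.comm ha' hb') ?_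
    rintro _ ⟨j, rfl⟩ b' hb'
    refine Commute.zpow_left ?_ j
    have hle : gcl A y ⊔ B ≤ Subgroup.centralizer ({y} : Set G) := sup_le
      (fun z hz => Subgroup.mem_centralizer_singleton_iff.2 (hyM z hz).symm.eq)
      (fun z hz => Subgroup.mem_centralizer_singleton_iff.2 (Subgroup.mem_centralizer_iff.1
        (h.cent_two hquad ⟨hz.1, hBP hz⟩) y (h.Qk_anti hk hy)).symm)
    exact (Subgroup.mem_centralizer_singleton_iff.1 (hle hb')).symm
  have hyin : y ∈ gcl A y ⊔ B := by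
    have := Subgroup.eq_of_le_of_card_ge (le_sup_right : gcl A y ⊔ B ≤ Subgroup.zpowers y ⊔ (gcl A y ⊔ B))
      (hmax.card_le _ (sup_le (Subgroup.zpowers_le.2 (h.PT (h.Qk_le k hy).1.1)) hmax.le) hcomm)
    exact this ▸ Subgroup.mem_sup_left (Subgroup.mem_zpowers y)
  have hBn : B ≤ Subgroup.normalizer (gcl A y : Set G) := inf_le_left.trans (gcl_normalized A y)
  rw [← SetLike.mem_coe, Subgroup.coe_mul_of_right_le_normalizer_left _ _ hBn] at hyin
  obtain ⟨μ, hμ, b, hb, he⟩ := Set.mem_mul.1 hyin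
  refine hM ?_
  rw [eq_bot_of_le_commutator h.pT hMT h.max.le (gcl_le fun a ha => ?_)]
  · exact bot_le
  have h1 : ⁅a, y⁆ = ⁅a, μ⁆ := by
    rw [← he, comm_mul_right', commutatorElement_eq_one_iff_commute.2 (h.commA ha hb.1), mul_one,
      mul_inv_cancel, mul_one]
  rw [h1, ← commutatorElement_inv]
  exact Subgroup.inv_mem _ (Subgroup.commutator_mem_commutator hμ ha)

/-- With `A` quadratic on `X`, it acts on `Q/X` with degree at most five. -/
theorem Q_five (hquad : ∀ v ∈ X, gcl A v ≤ A) : Cfsg.iterCommutator (Q p X) A 5 ≤ X := by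
  classical
  have hex : ∃ n, Qk p A X n ≤ X := by
    obtain ⟨n, hn⟩ := exists_iterCommutator_eq_bot h.pT
      ((inf_le_left.trans inf_le_left).trans h.PT : Q p X ≤ T) h.max.le
    exact ⟨n, (show Qk p A X n = ⊥ from hn) ▸ bot_le⟩
  set m := Nat.find hex with hm
  by_cases hm5 : m ≤ 5
  · exact (h.Qk_anti hm5).trans (Nat.find_spec hex)
  exfalso
  have hab : ∀ r s, m + 1 ≤ r + s → ∀ u ∈ Qk p A X r, ∀ v ∈ Qk p A X s, Commute u v := fun r s hrs u hu v hv =>
    commutatorElement_eq_one_iff_commute.1 (Subgroup.mem_bot.1 (h.pair_bot hquad (Nat.find_spec hex) r s hrs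
      (Subgroup.commutator_mem_commutator hu hv)))
  set k := m - 3 with hk
  have hkey : ∀ y ∈ Qk p A X k, gcl A y ≤ A := fun y hy => by
    have hMk : gcl A y ≤ Qk p A X (k + 1) := gcl_le fun a ha => h.comm_Qk ha hy
    exact h.gcl_le_of_deep hquad (by omega) hy
      (fun a ha b hb => hab (k + 1) (k + 1) (by omega) a (hMk ha) b (hMk hb))
      (fun z hz => hab k (k + 1) (by omega) y hy z (hMk hz))
  have hk1 : Qk p A X (k + 1) ≤ A := by
    show Cfsg.iterCommutator (Q p X) A (k + 1) ≤ A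
    rw [iterCommutator_succ]
    refine Subgroup.commutator_le.2 fun y hy a ha => ?_
    rw [← commutatorElement_inv]
    exact A.inv_mem (hkey y hy (mem_gcl ha))
  have hk2 : Qk p A X (k + 2) ≤ X := by
    show Cfsg.iterCommutator (Q p X) A (k + 1 + 1) ≤ X
    rw [iterCommutator_succ]
    refine Subgroup.commutator_le.2 fun z hz a ha => ?_
    rw [commutatorElement_eq_one_iff_commute.2 (h.commA (hk1 hz) ha)]
    exact X.one_mem
  have := Nat.find_min' hex hk2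
  omega

/-- The derivation rule of `d ∈ A` on a commutator of two elements of `Q`. -/
theorem move {d u v : G} (hu : u ∈ Q p X) (hv : v ∈ Q p X) :
    ⁅d, ⁅u, v⁆⁆ = ⁅⁅d, u⁆, ⁅d, v⁆⁆ * (⁅⁅d, u⁆, v⁆ * ⁅u, ⁅d, v⁆⁆) := by
  have hX : ∀ {a b : G}, a ∈ Q p X → b ∈ Q p X → ⁅a, b⁆ ∈ X := fun ha hb =>
    h.QQ_le (Subgroup.commutator_mem_commutator ha hb)
  have hl : ∀ {a b c : G}, a ∈ Q p X → b ∈ Q p X → c ∈ Q p X → ⁅a * b, c⁆ = ⁅a, c⁆ * ⁅b, c⁆ := by
    intro a b c ha hb hc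
    calc ⁅a * b, c⁆ = a * ⁅b, c⁆ * a⁻¹ * ⁅a, c⁆ := by simp only [commutatorElement_def]; group
      _ = ⁅b, c⁆ * ⁅a, c⁆ := by rw [← (h.Q_central (hX hb hc) ha).eq, mul_inv_cancel_right]
      _ = _ := h.comm _ (hX hb hc) _ (hX ha hc)
  have hr : ∀ {a b c : G}, a ∈ Q p X → b ∈ Q p X → c ∈ Q p X → ⁅a, b * c⁆ = ⁅a, b⁆ * ⁅a, c⁆ :=
    fun ha hb hc => comm_mul_right (h.Q_central (hX ha hc) hb)
  have h1 : d * ⁅u, v⁆ * d⁻¹ = ⁅⁅d, u⁆ * u, ⁅d, v⁆ * v⁆ := by simp only [commutatorElement_def]; group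
  rw [hr ((Q p X).mul_mem (h.comm_Q hu) hu) (h.comm_Q hv) hv, hl (h.comm_Q hu) hu (h.comm_Q hv),
    hl (h.comm_Q hu) hu hv] at h1
  have e1 : ⁅d, ⁅u, v⁆⁆ = d * ⁅u, v⁆ * d⁻¹ * ⁅u, v⁆⁻¹ := commutatorElement_def _ _
  rw [e1, h1, ← mul_assoc (⁅⁅d, u⁆, ⁅d, v⁆⁆ * ⁅u, ⁅d, v⁆⁆), mul_inv_cancel_right, mul_assoc]
  congr 1
  exact h.comm _ (hX hu (h.comm_Q hv)) _ (hX (h.comm_Q hu) hv)

/-- `A` permutes as operators on `Q/X`. -/
theorem swap_mod [X.Normal] {e f y : G} (he : e ∈ A) (hf : f ∈ A) (hy : y ∈ Q p X) :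
    QuotientGroup.mk' X ⁅e, ⁅f, y⁆⁆ = QuotientGroup.mk' X ⁅f, ⁅e, y⁆⁆ := by
  simp only [map_commutatorElement]
  refine comm_comm_eq ((h.commA he hf).map (QuotientGroup.mk' X)) ?_
  rw [← map_commutatorElement, ← map_commutatorElement, ← commutatorElement_eq_one_iff_commute,
    ← map_commutatorElement]
  exact (QuotientGroup.eq_one_iff _).2 (h.QQ_le (Subgroup.commutator_mem_commutator (h.comm_Q hy) (h.comm_Q hy)))

/-- For odd `p`, with `A` quadratic on `X`, it acts on `Q/X` with degree at most four. -/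
theorem Q_four_quad (hp : p ≠ 2) (hquad : ∀ v ∈ X, gcl A v ≤ A) :
    Cfsg.iterCommutator (Q p X) A 4 ≤ X := by
  haveI := h.normal
  have h5 : Qk p A X 5 ≤ X := h.Q_five hquad
  have hF : ∀ {r s : ℕ} {u v : G}, u ∈ Qk p A X r → v ∈ Qk p A X s → 5 ≤ r + s → ∀ e ∈ A, ⁅e, ⁅u, v⁆⁆ = 1 :=
    fun hu hv hrs e he => commutatorElement_eq_one_iff_commute.2 (Subgroup.mem_centralizer_iff.1
      (h.pair_F hquad h5 _ _ hrs (Subgroup.commutator_mem_commutator hu hv)).2 e he)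
  have hB : ∀ {r s : ℕ} {u v : G}, u ∈ Qk p A X r → v ∈ Qk p A X s → 6 ≤ r + s → ⁅u, v⁆ = 1 :=
    fun hu hv hrs => Subgroup.mem_bot.1 (h.pair_bot hquad h5 _ _ hrs (Subgroup.commutator_mem_commutator hu hv))
  have hX : ∀ {a b : G}, a ∈ Q p X → b ∈ Q p X → ⁅a, b⁆ ∈ X := fun ha hb =>
    h.QQ_le (Subgroup.commutator_mem_commutator ha hb)
  have shift : ∀ {r s : ℕ} {u v e l : G}, u ∈ Qk p A X r → v ∈ Qk p A X s → 3 ≤ r + s → e ∈ A → l ∈ A →
      ⁅e, ⁅⁅l, u⁆, v⁆⁆ = ⁅e, ⁅u, ⁅l, v⁆⁆⁆⁻¹ := by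
    intro r s u v e l hu hv hrs he hl
    have huQ := h.Qk_le r hu
    have hvQ := h.Qk_le s hv
    refine eq_inv_of_mul_eq_one_left ?_
    rw [← h.hom_X e (hX (h.comm_Q huQ) hvQ) (hX huQ (h.comm_Q hvQ))]
    have h2 : ⁅e, ⁅l, ⁅u, v⁆⁆⁆ = 1 := commutatorElement_eq_one_iff_commute.2
      (h.commA he (hquad _ (hX huQ hvQ) (mem_gcl hl)))
    rw [h.move huQ hvQ, h.hom_X e (hX (h.comm_Q huQ) (h.comm_Q hvQ))
      (X.mul_mem (hX (h.comm_Q huQ) hvQ) (hX huQ (h.comm_Q hvQ))),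
      hF (h.comm_Qk hl hu) (h.comm_Qk hl hv) (by omega) e he, one_mul] at h2
    exact h2
  refine iterCommutator_le_of_forall h.A_norm_Q 4 X h.X_le_Q h.QQ_le (fun e _ => h.hX_norm e) ?_
  intro l hl hlen x hx
  match l, hlen with
  | [f, d, c, a], _ =>
    show ⁅f, ⁅d, ⁅c, ⁅a, x⁆⁆⁆⁆ ∈ X
    have ha : a ∈ A := hl a (by simp)
    have hc : c ∈ A := hl c (by simp)
    have hd : d ∈ A := hl d (by simp)
    have hf : f ∈ A := hl f (by simp)
    clear hl hlen
    have h0 : x ∈ Qk p A X 0 := by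
      show x ∈ Cfsg.iterCommutator (Q p X) A 0
      rw [iterCommutator_zero]; exact hx
    -- the vanishing of the fixed parts
    have hpalin : ∀ {e l1 l2 l3 l4 : G}, e ∈ A → l1 ∈ A → l2 ∈ A → l3 ∈ A → l4 ∈ A →
        QuotientGroup.mk' X ⁅l1, ⁅l2, ⁅l3, ⁅l4, x⁆⁆⁆⁆ = QuotientGroup.mk' X ⁅l4, ⁅l3, ⁅l2, ⁅l1, x⁆⁆⁆⁆ →
        ⁅e, ⁅⁅l1, ⁅l2, ⁅l3, ⁅l4, x⁆⁆⁆⁆, x⁆⁆ = 1 := by
      intro e l1 l2 l3 l4 he h1 h2 h3 h4 hperm
      have k1 := shift (h.comm_Qk h2 (h.comm_Qk h3 (h.comm_Qk h4 h0))) h0 (by omega) he h1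
      have k2 := shift (h.comm_Qk h3 (h.comm_Qk h4 h0)) (h.comm_Qk h1 h0) (by omega) he h2
      have k3 := shift (h.comm_Qk h4 h0) (h.comm_Qk h2 (h.comm_Qk h1 h0)) (by omega) he h3
      have k4 := shift h0 (h.comm_Qk h3 (h.comm_Qk h2 (h.comm_Qk h1 h0))) (by omega) he h4
      rw [k2, k3, k4, inv_inv, inv_inv] at k1
      set w := ⁅l1, ⁅l2, ⁅l3, ⁅l4, x⁆⁆⁆⁆
      set w' := ⁅l4, ⁅l3, ⁅l2, ⁅l1, x⁆⁆⁆⁆
      have hwQ : w ∈ Q p X := h.comm_Q (h.comm_Q (h.comm_Q (h.comm_Q hx)))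
      have hz : w⁻¹ * w' ∈ X := QuotientGroup.eq.1 hperm
      have hsame : ⁅w', x⁆ = ⁅w, x⁆ := by
        calc ⁅w', x⁆ = ⁅w * (w⁻¹ * w'), x⁆ := by rw [mul_inv_cancel_left]
          _ = w * ⁅w⁻¹ * w', x⁆ * w⁻¹ * ⁅w, x⁆ := by simp only [commutatorElement_def]; group
          _ = _ := by
            rw [commutatorElement_eq_one_iff_commute.2 (h.Q_central hz hx), mul_one, mul_inv_cancel, one_mul]
      have hinv : ⁅e, ⁅x, w'⁆⁆ = ⁅e, ⁅w, x⁆⁆⁻¹ := by
        refine eq_inv_of_mul_eq_one_left ?_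
        rw [← h.hom_X e (hX hx (h.comm_Q (h.comm_Q (h.comm_Q (h.comm_Q hx))))) (hX hwQ hx), ← hsame,
          ← commutatorElement_inv w' x, inv_mul_cancel, commutatorElement_one_right]
      rw [hinv] at k1
      have hzz : ⁅e, ⁅w, x⁆⁆ ^ 2 = 1 := by rw [pow_two]; exact mul_eq_one_iff_eq_inv.2 k1
      obtain ⟨j, hj⟩ := IsPGroup.iff_orderOf.mp h.pT ⟨⁅e, ⁅w, x⁆⁆, h.XT (h.comm_X (hX hwQ hx))⟩
      rw [Subgroup.orderOf_mk] at hj
      exact orderOf_eq_one_iff.1 (Nat.eq_one_of_dvd_coprimes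
        (((Nat.coprime_primes Nat.prime_two Fact.out).2 (Ne.symm hp)).pow_right j)
        (orderOf_dvd_of_pow_eq_one hzz) hj.dvd)
    set x1 := ⁅a, x⁆ with hx1
    set y := ⁅c, x1⁆ with hy
    set x3 := ⁅d, y⁆ with hx3
    have m1 : x1 ∈ Qk p A X 1 := h.comm_Qk ha h0
    have m2 : y ∈ Qk p A X 2 := h.comm_Qk hc m1
    have hcomm : ∀ d ∈ A, Commute y ⁅d, y⁆ := by
      intro d hd
      have m3 : ⁅d, y⁆ ∈ Qk p A X 3 := h.comm_Qk hd m2
      have m4 : ⁅c, ⁅d, y⁆⁆ ∈ Qk p A X 4 := h.comm_Qk hc m3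
      have e1 : ⁅⁅c, ⁅d, y⁆⁆, x1⁆ = 1 := by
        have hA := hpalin ha hc hd hc ha (by
          rw [map_commutatorElement, map_commutatorElement (QuotientGroup.mk' X) d, h.swap_mod hc ha hx,
            ← map_commutatorElement (QuotientGroup.mk' X) d, h.swap_mod hd ha (h.comm_Q hx),
            ← map_commutatorElement, h.swap_mod hc ha (h.comm_Q (h.comm_Q hx))])
        have hmv := h.move (d := a) (h.Qk_le 4 m4) hx
        have hx5 : ⁅a, ⁅c, ⁅d, y⁆⁆⁆ ∈ X := h5 (h.comm_Qk ha m4)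
        rw [hA, commutatorElement_eq_one_iff_commute.2 (h.Q_central hx5 (h.comm_Q hx)),
          commutatorElement_eq_one_iff_commute.2 (h.Q_central hx5 hx), one_mul, one_mul] at hmv
        exact hmv.symm
      have e2 : ⁅c, ⁅⁅d, y⁆, x1⁆⁆ = 1 := by
        have hA := hpalin hc ha hd hc ha (by
          rw [map_commutatorElement, h.swap_mod hd hc (h.comm_Q hx), ← map_commutatorElement])
        rw [shift m3 h0 (by omega) hc ha] at hA
        exact inv_eq_one.1 hA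
      have hmv := h.move (d := c) (h.Qk_le 3 m3) (h.Qk_le 1 m1)
      rw [e2, e1, hB m4 m2 (by omega), one_mul, one_mul] at hmv
      exact (commutatorElement_eq_one_iff_commute.1 hmv.symm).symm
    have hM : gcl A y ≤ Qk p A X 3 := gcl_le fun e he => h.comm_Qk he m2
    have hyA : gcl A y ≤ A := by
      refine h.gcl_le_of_deep hquad le_rfl m2 (fun u hu v hv =>
        commutatorElement_eq_one_iff_commute.1 (hB (hM hu) (hM hv) (by omega))) fun z hz => ?_
      have hle : gcl A y ≤ Subgroup.centralizer ({y} : Set G) := gcl_le fun e he =>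
        Subgroup.mem_centralizer_singleton_iff.2 (hcomm e he).symm.eq
      exact (Subgroup.mem_centralizer_singleton_iff.1 (hle hz)).symm
    rw [commutatorElement_eq_one_iff_commute.2 (h.commA hf (hyA (mem_gcl hd)))]
    exact X.one_mem

theorem inf_centralizer_Q_le : Cfsg.pCore p G ⊓ Subgroup.centralizer (Q p X : Set G) ≤ X := by
  haveI := h.normal
  haveI := h.Q_normal
  set C := Cfsg.pCore p G ⊓ Subgroup.centralizer (Q p X : Set G) with hC
  by_contra hle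
  have hCR : C ≤ R p X := le_inf inf_le_left
    (inf_le_right.trans (Subgroup.centralizer_le (SetLike.coe_subset_coe.2 h.X_le_Q)))
  obtain ⟨N, ⟨hNn, hXN, hNC⟩, hmin⟩ := Set.Finite.exists_minimal
    (Set.toFinite {N : Subgroup G | N.Normal ∧ X < N ∧ N ≤ X ⊔ C})
    ⟨X ⊔ C, inferInstance, lt_of_le_of_ne le_sup_left fun e => hle (le_sup_right.trans e.ge), le_rfl⟩
  haveI := hNn
  have hNR : N ≤ R p X := hNC.trans (sup_le h.X_le_R hCR)
  have hchief : Cfsg.IsChiefFactor N X := by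
    refine ⟨hXN, hNn, h.normal, fun N' hN' h1 h2 => ?_⟩
    rcases eq_or_lt_of_le h1 with e | e
    · exact Or.inl e.symm
    · exact Or.inr (le_antisymm h2 (hmin ⟨hN', e, h2.trans hNC⟩ h2))
  have hNQ : N ≤ Q p X := le_inf hNR fun n hn => mem_commKer.2 fun u hu =>
    commutator_chiefKernel_le hchief le_rfl (Subgroup.commutator_mem_commutator hn
      (pCore_le_chiefKernel (hNR.trans inf_le_left) hu))
  set D := Q p X ⊓ Subgroup.centralizer (Q p X : Set G)
  have hDX : D ≤ X := h.maxX D inferInstance ((inf_le_left.trans inf_le_left).trans inf_le_left)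
    (fun a ha b hb => Subgroup.mem_centralizer_iff.1 hb.2 a ha.1) (le_inf h.X_le_Q fun x hx =>
      Subgroup.mem_centralizer_iff.2 fun q hq => (h.Q_central hx hq).symm.eq)
  refine hXN.not_ge fun n hn => ?_
  obtain ⟨x, hx, c, hc, rfl⟩ := Subgroup.mem_sup_of_normal_left.1 (hNC hn)
  have hcN : c ∈ N := (N.mul_mem_cancel_left (hXN.le hx)).1 hn
  exact X.mul_mem hx (hDX ⟨hNQ hcN, hc.2⟩)

/-- Every element of `A` has Engel degree at most six on the chief factors inside `O_p(G)`. -/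
theorem engel_six {g : G} (hg : g ∈ A) {U V : Subgroup G} (hUV : Cfsg.IsChiefFactor U V)
    (hU : U ≤ Cfsg.pCore p G) : Cfsg.iterCommutator U (Subgroup.zpowers g) 6 ≤ V := by
  haveI := h.normal
  haveI := h.Q_normal
  have hgA : Subgroup.zpowers g ≤ A := Subgroup.zpowers_le.2 hg
  have hPQ : ⁅Cfsg.pCore p G, Q p X⁆ ≤ X := Subgroup.commutator_le.2 fun u hu v hv => h.mem_Q_X hu hv
  have hcase : ∃ i j, 1 ≤ i ∧ i + j - 1 = 6 ∧ Cfsg.iterCommutator (Q p X) A i ≤ X ∧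
      (∀ U' V' : Subgroup G, Cfsg.IsChiefFactor U' V' → U' ≤ X → Cfsg.iterCommutator U' A j ≤ V') ∧ j ≤ i := by
    by_cases hq : ∀ v ∈ X, gcl A v ≤ A
    · exact ⟨5, 2, by norm_num, rfl, h.Q_five hq, fun U' V' _ hU' =>
        (((iterCommutator_mono hU' le_rfl 2).trans (h.quad_X hq).le)).trans bot_le, by norm_num⟩
    · push Not at hq
      exact ⟨4, 3, by norm_num, rfl, h.Q_four hq, fun U' V' hc hU' => h.chief_three hc hU', by norm_num⟩
  obtain ⟨i, j, hi, hij, hQi, hXj, hji⟩ := hcase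
  rw [← hij]
  refine engel_of_critical (Cores.isPGroup_pCore p G) (inf_le_left.trans inf_le_left) h.X_le_Q hPQ
    h.inf_centralizer_Q_le hi (fun U' V' hc hU' => ?_) (fun U' V' hc hU' =>
      (iterCommutator_mono le_rfl hgA j).trans (hXj U' V' hc hU')) hUV hU
  haveI := hc.2.1
  haveI := hc.2.2.1
  have hn : ∀ N : Subgroup G, N.Normal → ∀ K : Subgroup G, K ≤ Subgroup.normalizer (N : Set G) := fun N hN K => by
    haveI := hN
    exact Subgroup.normalizer_eq_top (H := N) ▸ le_top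
  refine (iterCommutator_mono le_rfl hgA i).trans ?_
  by_cases hle : U' ≤ V' ⊔ X
  · obtain ⟨h1, h2⟩ := isChiefFactor_inf hc hle
    refine (iterCommutator_le_sup h2 ((iterCommutator_antitone (hn (U' ⊓ X) inferInstance A) hji).trans
      (hXj _ _ h1 inf_le_right))).trans (sup_le le_rfl inf_le_left)
  · have hint : U' ⊓ X ≤ V' := by
      rcases hc.2.2.2 (V' ⊔ U' ⊓ X) inferInstance le_sup_left (sup_le hc.1.le inf_le_left) with e | e
      · exact le_sup_right.trans e.le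
      · exact absurd (e.ge.trans (sup_le_sup_left inf_le_right V')) hle
    exact (le_inf (iterCommutator_le_start (hn U' hc.2.1 A) i)
      ((iterCommutator_mono hU' le_rfl i).trans hQi)).trans hint

end Data

end CfsgLib.Replacement.JEngel
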