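import Cfsg.Agent.Lib.Replacement.JEngel
import Cfsg.Agent.Lib.KInf.Control
import Cfsg.Agent.Lib.Transfer.Tate

/-!
For `p ≥ 7` the normalizer of the Thompson subgroup (abelian version) of a Sylow `p`-subgroup controls
`p`-transfer.
-/

set_option autoImplicit false
set_option linter.style.haveILetI false

universe u

namespace CfsgLib.Replacement.JEngel

open CfsgLib.ConjFunctor CfsgLib.NormalPComplement

/-- The Thompson subgroup as a functor on groups. -/
abbrev jFun : ∀ (Q : Type u) [Group Q], Subgroup Q := fun Q _ => Cfsg.thompsonSubgroupA Q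

theorem thompsonSubgroupAOf_top (Q : Type u) [Group Q] :
    Cfsg.thompsonSubgroupAOf (⊤ : Subgroup Q) = Cfsg.thompsonSubgroupA Q := by
  refine le_antisymm (thompsonSubgroupAOf_le_iff.2 fun A hA => le_sSup ⟨hA.comm, fun B hB => hA.card_le B le_top hB⟩)
    (sSup_le fun A hA => le_thompsonSubgroupAOf ⟨le_top, hA.1, fun B _ hB => hA.2 B hB⟩)

theorem isCharPFunctor_jFun (p : ℕ) : Cfsg.IsCharPFunctor.{u} p jFun.{u} := by
  refine ⟨fun Q _ _ _ _ => ?_, fun Q R _ _ _ _ φ => ?_⟩
  · show Cfsg.thompsonSubgroupA Q ≠ ⊥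
    rw [← thompsonSubgroupAOf_top]
    exact thompsonSubgroupAOf_ne_bot top_ne_bot
  · show (Cfsg.thompsonSubgroupA Q).map φ.toMonoidHom = Cfsg.thompsonSubgroupA R
    rw [← thompsonSubgroupAOf_top, ← thompsonSubgroupAOf_top R,
      map_thompsonSubgroupAOf (f := φ.toMonoidHom) φ.injective, Subgroup.map_top_of_surjective _ φ.surjective]

/-- If the Thompson subgroup of a Sylow subgroup is not normal, an element outside `O_p(G)` has Engel degree
at most six on the chief factors inside `O_p(G)`. -/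
theorem exists_engel_six {G : Type u} [Group G] [Finite G] {p : ℕ} [Fact p.Prime] (T : Sylow p G)
    (hn : ¬ (Cfsg.thompsonSubgroupAOf (T : Subgroup G)).Normal) :
    ∃ g ∈ (T : Subgroup G), g ∉ Cfsg.pCore p G ∧ ∀ U V : Subgroup G, Cfsg.IsChiefFactor U V →
      U ≤ Cfsg.pCore p G → Cfsg.iterCommutator U (Subgroup.zpowers g) 6 ≤ V := by
  have hPT : Cfsg.pCore p G ≤ (T : Subgroup G) := Cores.pCore_le_sylow T
  by_cases hall : ∀ A, IsMaxAbelian (T : Subgroup G) A → A ≤ Cfsg.pCore p G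
  · refine absurd ?_ hn
    rw [← thompsonSubgroupAOf_eq_of_le hPT (thompsonSubgroupAOf_le_iff.2 hall), ← Subgroup.normalizer_eq_top_iff,
      eq_top_iff, ← Subgroup.normalizer_eq_top (H := Cfsg.pCore p G)]
    exact normalizer_le_normalizer_thompsonSubgroupAOf _
  push Not at hall
  obtain ⟨A₀, hA₀, hout⟩ := hall
  obtain ⟨A, X, hd⟩ := exists_data T.2 hPT hA₀ hout
  obtain ⟨g, hgA, hgP⟩ := SetLike.not_le_iff_exists.1 hd.out
  exact ⟨g, hd.max.le hgA, hgP, fun U V hUV hU => hd.engel_six hgA hUV hU⟩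

theorem transferOK_jFun {G : Type u} [Group G] [Finite G] {p : ℕ} [Fact p.Prime] (hp : 7 ≤ p) :
    TransferOK p {jFun.{u}} G := by
  refine transferOK_of_engel (G := G) (isCharPFunctor_jFun p) (fun K R _ _ T hn => ?_) IsSection.refl
  obtain ⟨g, hg, hgP, hgE⟩ := exists_engel_six T hn
  refine ⟨g, hg, hgP, fun U V hc hU => (CfsgLib.KInf.iterCommutator_antitone ?_ (show 6 ≤ p - 1 by omega)).trans
    (hgE U V hc hU)⟩
  haveI := hc.2.1
  exact Subgroup.normalizer_eq_top (H := U) ▸ le_top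

/-- For `p ≥ 7` the normalizer `M` of `J(S)` has `M ∩ O^p(G) = O^p(M)`. -/
theorem pResidual_subgroupOf_normalizer {G : Type u} [Group G] [Finite G] {p : ℕ} [Fact p.Prime] (hp : 7 ≤ p)
    (S : Sylow p G) :
    (Cfsg.pResidual p G).subgroupOf (Subgroup.normalizer (Cfsg.thompsonSubgroupAOf (S : Subgroup G) : Set G)) =
      Cfsg.pResidual p ↥(Subgroup.normalizer (Cfsg.thompsonSubgroupAOf (S : Subgroup G) : Set G)) := by
  set M := Subgroup.normalizer (Cfsg.thompsonSubgroupAOf (S : Subgroup G) : Set G) with hM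
  have hSM : (S : Subgroup G) ≤ M :=
    Subgroup.le_normalizer.trans (normalizer_le_normalizer_thompsonSubgroupAOf _)
  have hidx : ¬ p ∣ M.index := fun hd => S.not_dvd_index (hd.trans (Subgroup.index_dvd_of_le hSM))
  refine CfsgLib.Transfer.tate M hidx fun N hN hc hpow x hx => ?_
  haveI := hN
  have hN' : IsPGroup p (↥M ⧸ N) := by
    intro q
    obtain ⟨y, rfl⟩ := QuotientGroup.mk'_surjective N q
    exact ⟨1, by rw [pow_one, ← map_pow]; exact (QuotientGroup.eq_one_iff _).2 (hpow y)⟩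
  have hres : Cfsg.pResidual p ↥M ≤ N := CfsgLib.Transfer.pResidual_le_of_isPGroup hN'
  obtain ⟨s, hs, k, hk, rfl⟩ := CfsgLib.Transfer.exists_mul_eq (S.subtype hSM) x
  refine N.mul_mem ?_ (hres hk)
  have hsK : (s : G) ∈ (S : Subgroup G) ⊓ Cfsg.pResidual p G := by
    refine ⟨hs, ?_⟩
    have h1 : ((s * k : ↥M) : G) ∈ Cfsg.pResidual p G := hx
    exact ((Cfsg.pResidual p G).mul_mem_cancel_right (CfsgLib.Transfer.pResidual_subtype_le M hk)).1 h1
  have h2 : (s : G) ∈ (S : Subgroup G) ⊓ commutator G :=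
    ⟨hs, Subgroup.focalSubgroup_le_commutator _ (CfsgLib.Transfer.inf_pResidual_le_focalSubgroup S hsK)⟩
  rw [CfsgLib.KInf.inf_commutator_eq_of_transferOK (transferOK_jFun hp) S] at h2
  have h3 : (s : G) ∈ ⁅M, M⁆ := h2.2
  rw [← Subgroup.map_subtype_commutator] at h3
  obtain ⟨s', hs', he⟩ := h3
  exact hc (Subtype.ext he ▸ hs')

/-- For `p ≥ 7`: `G/O^p(G) ≅ M/O^p(M)` with `M` the normalizer of `J(S)`. -/
theorem nonempty_quotient_equiv {G : Type u} [Group G] [Finite G] {p : ℕ} [Fact p.Prime] (hp : 7 ≤ p)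
    (S : Sylow p G) [(Cfsg.pResidual p G).Normal]
    [(Cfsg.pResidual p ↥(Subgroup.normalizer (Cfsg.thompsonSubgroupAOf (S : Subgroup G) : Set G))).Normal] :
    Nonempty (G ⧸ Cfsg.pResidual p G ≃*
      ↥(Subgroup.normalizer (Cfsg.thompsonSubgroupAOf (S : Subgroup G) : Set G)) ⧸
        Cfsg.pResidual p ↥(Subgroup.normalizer (Cfsg.thompsonSubgroupAOf (S : Subgroup G) : Set G))) := by
  set M := Subgroup.normalizer (Cfsg.thompsonSubgroupAOf (S : Subgroup G) : Set G) with hM
  have hSM : (S : Subgroup G) ≤ M :=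
    Subgroup.le_normalizer.trans (normalizer_le_normalizer_thompsonSubgroupAOf _)
  have hidx : ¬ p ∣ M.index := fun hd => S.not_dvd_index (hd.trans (Subgroup.index_dvd_of_le hSM))
  let φ : ↥M →* G ⧸ Cfsg.pResidual p G := (QuotientGroup.mk' _).comp M.subtype
  have hφ : Function.Surjective φ := by
    intro q
    obtain ⟨g, rfl⟩ := QuotientGroup.mk'_surjective _ q
    obtain ⟨m, hm, k, hk, rfl⟩ :=
      Subgroup.mem_sup_of_normal_right.1 ((CfsgLib.Transfer.sup_pResidual_eq_top hidx).ge (Subgroup.mem_top g))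
    exact ⟨⟨m, hm⟩, (QuotientGroup.eq.2 (by simpa using hk))⟩
  have hker : φ.ker = Cfsg.pResidual p ↥M := by
    rw [← pResidual_subgroupOf_normalizer hp S]
    ext x
    exact QuotientGroup.eq_one_iff (x : G)
  exact ⟨((QuotientGroup.quotientMulEquivOfEq hker.symm).trans
    (QuotientGroup.quotientKerEquivOfSurjective φ hφ)).symm⟩

end CfsgLib.Replacement.JEngel
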