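import Mathlib

/-!
Finite groups with abelian centralizers of noncentral elements and normalizer index at most two, counted by
the class equation; application to `p'`-subgroups of `GL₂(p)`.
-/

set_option autoImplicit false
set_option linter.style.haveILetI false

namespace CfsgLib.Replacement.LinearTI

open Finset

/-- Arithmetic facts about the size of one class. -/
theorem class_facts {q e k z x h : ℕ} (he : e = 1 ∨ e = 2) (hk : 2 ≤ k) (hq : 1 ≤ q) (hz : 1 ≤ z)
    (hh : h = q * (e * k) * z) (hx : x = q * (k - 1) * z) :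
    h ≤ 4 * x ∧ (2 * x ≤ h ∨ 2 * h ≤ 3 * x) ∧ (4 * x = h ∨ 3 * x = h ∨ 3 * h ≤ 8 * x) := by
  obtain ⟨k, rfl⟩ := Nat.exists_eq_add_of_le hk
  subst hh hx
  simp only [show 2 + k - 1 = 1 + k by omega]
  have hqz : 0 < q * z := Nat.mul_pos hq hz
  rcases he with rfl | rfl <;> rcases k with _ | _ | k <;>
    refine ⟨by nlinarith, ?_, ?_⟩ <;>
    first
      | (left; nlinarith)
      | (right; nlinarith)
      | (right; left; nlinarith)
      | (right; right; nlinarith)

variable {H : Type*} [Group H] [Finite H]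

/-- The centralizer of an element. -/
abbrev C (g : H) : Subgroup H := Subgroup.centralizer ({g} : Set H)

theorem mem_C {g x : H} : x ∈ C g ↔ x * g = g * x := Subgroup.mem_centralizer_singleton_iff

variable {Z : Subgroup H}

/-- The hypotheses. -/
structure Hyp (Z : Subgroup H) : Prop where
  central : Z ≤ Subgroup.center H
  abelian : ∀ g : H, g ∉ Z → ∀ x y : H, x * g = g * x → y * g = g * y → x * y = y * x
  two : ∀ g : H, g ∉ Z → ∀ x y : H, x * g * x⁻¹ ∈ C g → y * g * y⁻¹ ∈ C g →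
    x * g * x⁻¹ = g ∨ y * g * y⁻¹ = g ∨ x * g * x⁻¹ = y * g * y⁻¹

theorem Hyp.le_C (hH : Hyp Z) (g : H) : Z ≤ C g := fun _ hx =>
  mem_C.2 (Subgroup.mem_center_iff.1 (hH.central hx) g).symm

theorem Hyp.C_eq (hH : Hyp Z) {g x : H} (hg : g ∉ Z) (hx : x ∈ C g) (hxZ : x ∉ Z) : C x = C g := by
  ext y
  simp only [mem_C]
  exact ⟨fun h => hH.abelian x hxZ y g h (mem_C.1 hx).symm,
    fun h => hH.abelian g hg y x h (mem_C.1 hx)⟩

theorem Hyp.conj_not_mem (hH : Hyp Z) {g : H} (hg : g ∉ Z) (x : H) : x * g * x⁻¹ ∉ Z := fun h => by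
  have h' := Subgroup.mem_center_iff.1 (hH.central h) x
  refine hg ?_
  have e : x * g * x⁻¹ = g := by
    calc x * g * x⁻¹ = x⁻¹ * (x * (x * g * x⁻¹)) := by group
      _ = x⁻¹ * ((x * g * x⁻¹) * x) := by rw [h']
      _ = g := by group
  rwa [e] at h

theorem card_C_conj (g x : H) : Nat.card (C (x * g * x⁻¹)) = Nat.card (C g) := by
  refine Nat.card_congr ⟨fun y => ⟨x⁻¹ * y * x, mem_C.2 ?_⟩, fun y => ⟨x * y * x⁻¹, mem_C.2 ?_⟩,
    fun y => Subtype.ext (by simp only; group), fun y => Subtype.ext (by simp only; group)⟩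
  · have h := mem_C.1 y.2
    calc x⁻¹ * (y : H) * x * g = x⁻¹ * ((y : H) * (x * g * x⁻¹)) * x := by group
      _ = x⁻¹ * ((x * g * x⁻¹) * y) * x := by rw [h]
      _ = g * (x⁻¹ * (y : H) * x) := by group
  · have h := mem_C.1 y.2
    calc x * (y : H) * x⁻¹ * (x * g * x⁻¹) = x * ((y : H) * g) * x⁻¹ := by group
      _ = x * (g * y) * x⁻¹ := by rw [h]
      _ = x * g * x⁻¹ * (x * (y : H) * x⁻¹) := by group

theorem C_conj_congr {g g' : H} (x : H) (h : C g = C g') : C (x * g * x⁻¹) = C (x * g' * x⁻¹) := by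
  have key : ∀ a : H, C (x * a * x⁻¹) = (C a).map (MulAut.conj x).toMonoidHom := fun a => by
    ext y
    rw [Subgroup.mem_map]
    simp only [mem_C, MulEquiv.coe_toMonoidHom, MulAut.conj_apply]
    constructor
    · intro hy
      refine ⟨x⁻¹ * y * x, ?_, by group⟩
      calc x⁻¹ * y * x * a = x⁻¹ * (y * (x * a * x⁻¹)) * x := by group
        _ = x⁻¹ * ((x * a * x⁻¹) * y) * x := by rw [hy]
        _ = a * (x⁻¹ * y * x) := by group
    · rintro ⟨b, hb, rfl⟩
      calc x * b * x⁻¹ * (x * a * x⁻¹) = x * (b * a) * x⁻¹ := by group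
        _ = x * (a * b) * x⁻¹ := by rw [hb]
        _ = x * a * x⁻¹ * (x * b * x⁻¹) := by group
  rw [key, key, h]

variable [Fintype H] [DecidableEq (Subgroup H)]

/-- The conjugacy class of the centralizer of `g`. -/
def cl (g : H) : Finset (Subgroup H) := univ.image fun x => C (x * g * x⁻¹)

theorem self_mem_cl (g : H) : C g ∈ cl g := mem_image.2 ⟨1, mem_univ _, by simp⟩

theorem cl_eq_iff {u g : H} : cl u = cl g ↔ C u ∈ cl g := by
  refine ⟨fun h => h ▸ self_mem_cl u, fun h => ?_⟩
  obtain ⟨x, -, hx⟩ := mem_image.1 h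
  ext B
  simp only [cl, mem_image, mem_univ, true_and]
  constructor
  · rintro ⟨y, rfl⟩
    refine ⟨y * x, ?_⟩
    rw [C_conj_congr y hx.symm]
    group
  · rintro ⟨y, rfl⟩
    refine ⟨y * x⁻¹, ?_⟩
    rw [C_conj_congr (y * x⁻¹) hx.symm]
    group

open Classical in
/-- The data of one class. -/
theorem class_data (hH : Hyp Z) {g : H} (hg : g ∉ Z) :
    ∃ e, (e = 1 ∨ e = 2) ∧ 2 ≤ Z.relIndex (C g) ∧
      Nat.card H = (cl g).card * (e * Z.relIndex (C g)) * Nat.card Z ∧
      (univ.filter fun u : H => u ∉ Z ∧ cl u = cl g).card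
        = (cl g).card * (Z.relIndex (C g) - 1) * Nat.card Z := by
  set a := Nat.card (C g) with ha
  set k := Z.relIndex (C g) with hk
  have hak : a = k * Nat.card Z := by
    rw [ha, hk, Subgroup.relIndex, ← Subgroup.index_mul_card (Z.subgroupOf (C g))]
    congr 1
    exact Nat.card_congr (Subgroup.subgroupOfEquivOfLe (hH.le_C g)).toEquiv
  have hk2 : 2 ≤ k := by
    have h0 : k ≠ 0 := fun h0 => Nat.card_pos.ne' (ha ▸ hak.trans (by rw [h0, zero_mul]))
    have h1 : k ≠ 1 := fun h1 => hg (Subgroup.relIndex_eq_one.1 h1 (mem_C.2 rfl))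
    omega
  let Ng : Finset H := univ.filter fun x => C (x * g * x⁻¹) = C g
  set S := Ng.image fun x => x * g * x⁻¹ with hS
  have hmemN : ∀ x ∈ Ng, x * g * x⁻¹ ∈ C g := fun x hx => by
    have h : x * g * x⁻¹ ∈ C (x * g * x⁻¹) := mem_C.2 rfl
    rwa [(mem_filter.1 hx).2] at h
  have hgS : g ∈ S := mem_image.2 ⟨1, mem_filter.2 ⟨mem_univ _, by simp⟩, by simp⟩
  have hS2 : S.card ≤ 2 := by
    by_contra hc
    obtain ⟨u, hu, hug⟩ := Finset.exists_mem_ne (show 1 < S.card by omega) g
    have hsub : S ⊆ {g, u} := fun w hw => by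
      obtain ⟨x, hx, rfl⟩ := mem_image.1 hu
      obtain ⟨y, hy, rfl⟩ := mem_image.1 hw
      rcases hH.two g hg x y (hmemN x hx) (hmemN y hy) with h | h | h
      · exact absurd h hug
      · simp [h]
      · simp [h]
    exact hc ((card_le_card hsub).trans card_le_two)
  have hS1 : 1 ≤ S.card := card_pos.2 ⟨g, hgS⟩
  have hNcard : Ng.card = S.card * a := by
    rw [card_eq_sum_card_image (fun x => x * g * x⁻¹) Ng, ← hS]
    rw [sum_const_nat (m := a)]
    intro u hu
    obtain ⟨x, hx, rfl⟩ := mem_image.1 hu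
    rw [ha, Nat.card_eq_fintype_card, ← Finset.card_univ]
    refine (Finset.card_bij (fun (c : C g) _ => x * (c : H)) ?_ ?_ ?_).symm
    · intro c _
      have e : x * (c : H) * g * (x * (c : H))⁻¹ = x * g * x⁻¹ := by
        calc x * (c : H) * g * (x * (c : H))⁻¹ = x * ((c : H) * g) * (c : H)⁻¹ * x⁻¹ := by group
          _ = x * (g * c) * (c : H)⁻¹ * x⁻¹ := by rw [mem_C.1 c.2]
          _ = x * g * x⁻¹ := by group
      refine mem_filter.2 ⟨mem_filter.2 ⟨mem_univ _, ?_⟩, e⟩
      rw [e]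
      exact (mem_filter.1 hx).2
    · intro c _ c' _ h
      exact Subtype.ext (mul_left_cancel h)
    · intro y hy
      have e := (mem_filter.1 hy).2
      refine ⟨⟨x⁻¹ * y, mem_C.2 ?_⟩, mem_univ _, by simp⟩
      calc x⁻¹ * y * g = x⁻¹ * (y * g * y⁻¹) * y := by group
        _ = x⁻¹ * (x * g * x⁻¹) * y := by rw [e]
        _ = g * (x⁻¹ * y) := by group
  have hH' : Nat.card H = (cl g).card * Ng.card := by
    rw [Nat.card_eq_fintype_card, ← Finset.card_univ,
      card_eq_sum_card_image (fun x => C (x * g * x⁻¹)) univ, show univ.image _ = cl g from rfl,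
      sum_const_nat (m := Ng.card)]
    intro B hB
    obtain ⟨x, -, rfl⟩ := mem_image.1 hB
    refine (Finset.card_bij (fun y _ => x * y) ?_ ?_ ?_).symm
    · intro y hy
      refine mem_filter.2 ⟨mem_univ _, ?_⟩
      rw [← C_conj_congr x (mem_filter.1 hy).2]
      group
    · intro y _ y' _ h
      exact mul_left_cancel h
    · intro y hy
      refine ⟨x⁻¹ * y, mem_filter.2 ⟨mem_univ _, ?_⟩, by simp⟩
      have h := C_conj_congr x⁻¹ (mem_filter.1 hy).2
      convert h using 2 <;> group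
  have hfib : (univ.filter fun u : H => u ∉ Z ∧ cl u = cl g).card = (cl g).card * (a - Nat.card Z) := by
    rw [card_eq_sum_card_fiberwise (f := fun u => C u) (t := cl g)
      fun u hu => cl_eq_iff.1 (mem_filter.1 hu).2.2]
    rw [sum_const_nat (m := a - Nat.card Z)]
    intro B hB
    obtain ⟨x, -, rfl⟩ := mem_image.1 hB
    have hg' := hH.conj_not_mem hg x
    rw [ha, ← card_C_conj g x, Nat.card_eq_fintype_card, Fintype.card_subtype,
      Nat.card_eq_fintype_card, Fintype.card_subtype, ← card_sdiff_of_subset (fun u hu => by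
        simp only [mem_filter, mem_univ, true_and] at hu ⊢
        exact hH.le_C _ hu)]
    congr 1
    ext u
    simp only [mem_filter, mem_univ, true_and, mem_sdiff]
    constructor
    · rintro ⟨⟨hu, -⟩, h⟩
      exact ⟨h ▸ mem_C.2 rfl, hu⟩
    · rintro ⟨h, hu⟩
      have := hH.C_eq hg' h hu
      exact ⟨⟨hu, cl_eq_iff.2 (this ▸ hB)⟩, this⟩
  refine ⟨S.card, by omega, hk2, ?_, ?_⟩
  · rw [hH', hNcard, hak]; ring
  · rw [hfib, hak, mul_assoc]
    congr 1
    rw [Nat.sub_one_mul]

open Classical in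
/-- The classes. -/
noncomputable def classes (Z : Subgroup H) : Finset (Finset (Subgroup H)) :=
  (univ.filter fun u : H => u ∉ Z).image cl

open Classical in
/-- The weight of a class. -/
noncomputable def weight (Z : Subgroup H) (ω : Finset (Subgroup H)) : ℕ :=
  (univ.filter fun u : H => u ∉ Z ∧ cl u = ω).card

open Classical in
theorem class_equation : (∑ ω ∈ classes Z, weight Z ω) + Nat.card Z = Nat.card H := by
  have h : ∑ ω ∈ classes Z, weight Z ω = (univ.filter fun u : H => u ∉ Z).card := by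
    rw [classes, card_eq_sum_card_image (cl) (univ.filter fun u : H => u ∉ Z)]
    refine sum_congr rfl fun ω _ => ?_
    rw [weight, filter_filter]
  rw [h, Nat.card_eq_fintype_card, Fintype.card_subtype, Nat.card_eq_fintype_card, ← Finset.card_univ,
    add_comm]
  exact card_filter_add_card_filter_not _

theorem weight_facts (hH : Hyp Z) {ω : Finset (Subgroup H)} (hω : ω ∈ classes Z) :
    Nat.card H ≤ 4 * weight Z ω ∧
      (2 * weight Z ω ≤ Nat.card H ∨ 2 * Nat.card H ≤ 3 * weight Z ω) ∧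
      (4 * weight Z ω = Nat.card H ∨ 3 * weight Z ω = Nat.card H ∨ 3 * Nat.card H ≤ 8 * weight Z ω) := by
  classical
  obtain ⟨u, hu, rfl⟩ := mem_image.1 hω
  obtain ⟨e, he, hk, hh, hx⟩ := class_data hH (mem_filter.1 hu).2
  exact class_facts he hk (card_pos.2 ⟨_, self_mem_cl u⟩) Nat.card_pos hh hx

/-- Where the remaining weight can lie. -/
theorem rest_cases {s : Finset (Finset (Subgroup H))} (hH : Hyp Z) (hs : s ⊆ classes Z) :
    let R := ∑ ω ∈ s, weight Z ω
    (s = ∅ ∧ R = 0) ∨ (Nat.card H ≤ 4 * R ∧ (2 * R ≤ Nat.card H ∨ 2 * Nat.card H ≤ 3 * R)) ∨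
      (2 * R = Nat.card H) ∨ (12 * R = 7 * Nat.card H) ∨ (5 * Nat.card H ≤ 8 * R) := by
  intro R
  rcases s.eq_empty_or_nonempty with rfl | ⟨ω₁, h₁⟩
  · exact Or.inl ⟨rfl, rfl⟩
  right
  obtain ⟨a₁, b₁, c₁⟩ := weight_facts hH (hs h₁)
  have hR1 : R = weight Z ω₁ + ∑ ω ∈ s.erase ω₁, weight Z ω := (add_sum_erase s _ h₁).symm
  rcases (s.erase ω₁).eq_empty_or_nonempty with h | ⟨ω₂, h₂⟩
  · rw [h, sum_empty, add_zero] at hR1
    exact Or.inl ⟨hR1 ▸ a₁, hR1 ▸ b₁⟩
  right
  obtain ⟨a₂, b₂, c₂⟩ := weight_facts hH (hs (mem_of_mem_erase h₂))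
  rw [← add_sum_erase _ _ h₂] at hR1
  rcases ((s.erase ω₁).erase ω₂).eq_empty_or_nonempty with h | ⟨ω₃, h₃⟩
  · rw [h, sum_empty, add_zero] at hR1
    omega
  · obtain ⟨a₃, -, -⟩ := weight_facts hH (hs (mem_of_mem_erase (mem_of_mem_erase h₃)))
    have hR : R = weight Z ω₁ + (weight Z ω₂ + ∑ ω ∈ (s.erase ω₁).erase ω₂, weight Z ω) := hR1
    have := single_le_sum (f := weight Z) (fun i _ => Nat.zero_le _) h₃
    omega

/-- A centralizer of index at least six over `Z` is normal and absorbs every other one of index above two. -/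
theorem eq_of_six_le (hH : Hyp Z) {g g' : H} (hg : g ∉ Z) (hg' : g' ∉ Z)
    (hk : 6 ≤ Z.relIndex (C g)) (hk' : 3 ≤ Z.relIndex (C g')) : C g' = C g := by
  classical
  obtain ⟨e, he, -, hh, hx⟩ := class_data hH hg
  set q := (cl g).card with hq
  set k := Z.relIndex (C g) with hkd
  set z := Nat.card Z
  set h := Nat.card H
  have hmem : cl g ∈ classes Z := mem_image.2 ⟨g, by simp [hg], rfl⟩
  have heq := class_equation (Z := Z)
  rw [← add_sum_erase _ _ hmem] at heq
  have hw : weight Z (cl g) = q * (k - 1) * z := hx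
  have hr := rest_cases hH (erase_subset (cl g) (classes Z))
  simp only at hr
  set R := ∑ ω ∈ (classes Z).erase (cl g), weight Z ω
  have hz : 0 < z := Nat.card_pos
  have hq1 : 1 ≤ q := card_pos.2 ⟨_, self_mem_cl g⟩
  have hqz : 0 < q * z := Nat.mul_pos hq1 hz
  have hkey : q * (k - 1) * z + q * z = q * k * z := by
    rw [← add_mul, ← Nat.mul_succ]; congr 2; omega
  have hk6 : 6 * (q * z) ≤ q * k * z := by nlinarith
  have hq_one : q = 1 := by
    by_contra hne
    have hq2 : 2 * z ≤ q * z := Nat.mul_le_mul_right z (by omega)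
    rcases he with rfl | rfl
    · have hh' : h = q * k * z := by rw [hh]; ring
      omega
    · have hh' : h = 2 * (q * k * z) := by rw [hh]; ring
      omega
  by_contra hne
  have hCeq : ∀ x, C (x * g * x⁻¹) = C g := fun x =>
    card_le_one.1 hq_one.le _ (mem_image.2 ⟨x, mem_univ _, rfl⟩) _ (self_mem_cl g)
  have hinf : C g ⊓ C g' = Z := by
    refine le_antisymm (fun y hy => ?_) (le_inf (hH.le_C g) (hH.le_C g'))
    by_contra hyZ
    exact hne ((hH.C_eq hg' hy.2 hyZ).symm.trans (hH.C_eq hg hy.1 hyZ))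
  have h1 : Z.relIndex (C g') = (C g).relIndex (C g') := by
    rw [← hinf, Subgroup.inf_relIndex_right]
  have hidx : (C g).index = e := by
    have hc : Nat.card (C g) = k * z := by
      rw [hkd, Subgroup.relIndex, ← Subgroup.index_mul_card (Z.subgroupOf (C g))]
      congr 1
      exact Nat.card_congr (Subgroup.subgroupOfEquivOfLe (hH.le_C g)).toEquiv
    have := (C g).index_mul_card
    rw [hc] at this
    refine Nat.eq_of_mul_eq_mul_right (Nat.mul_pos (by omega : 0 < k) hz) ?_
    rw [this]; exact hh.trans (by rw [hq_one]; ring)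
  have h2 : (C g).relIndex (C g') ≤ (C g).index := by
    rw [← Subgroup.relIndex_top_right]
    exact Subgroup.relIndex_le_of_le_right le_top (by rw [Subgroup.relIndex_top_right]; exact Subgroup.index_ne_zero_of_finite)
  omega

/-- There are at most three centralizers of index four over `Z`. -/
theorem card_four_le (hH : Hyp Z) :
    Nat.card {B : Subgroup H // ∃ g, g ∉ Z ∧ Z.relIndex (C g) = 4 ∧ B = C g} ≤ 3 := by
  classical
  by_cases hne : ∀ g, g ∉ Z → Z.relIndex (C g) ≠ 4
  · haveI : IsEmpty {B : Subgroup H // ∃ g, g ∉ Z ∧ Z.relIndex (C g) = 4 ∧ B = C g} :=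
      ⟨fun B => by obtain ⟨g, hg, hk, -⟩ := B.2; exact hne g hg hk⟩
    rw [Nat.card_of_isEmpty]
    exact Nat.zero_le _
  push Not at hne
  obtain ⟨g, hg, hk⟩ := hne
  obtain ⟨e, he, -, hh, hx⟩ := class_data hH hg
  rw [hk] at hh hx
  set q := (cl g).card with hq
  set z := Nat.card Z
  set h := Nat.card H
  have hmem : cl g ∈ classes Z := mem_image.2 ⟨g, by simp [hg], rfl⟩
  have heq := class_equation (Z := Z)
  rw [← add_sum_erase _ _ hmem] at heq
  have hw : weight Z (cl g) = q * (4 - 1) * z := hx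
  have hr := rest_cases hH (erase_subset (cl g) (classes Z))
  simp only at hr
  set R := ∑ ω ∈ (classes Z).erase (cl g), weight Z ω with hR
  have hz : 0 < z := Nat.card_pos
  have hq1 : 1 ≤ q := card_pos.2 ⟨_, self_mem_cl g⟩
  have hqz : 0 < q * z := Nat.mul_pos hq1 hz
  have hw' : weight Z (cl g) = 3 * (q * z) := by rw [hw]; ring
  have hzq : z ≤ q * z := Nat.le_mul_of_pos_left z hq1
  have hsame : ∀ g' : H, g' ∉ Z → Z.relIndex (C g') = 4 → cl g' = cl g := by
    intro g' hg' hk'
    by_contra hne'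
    obtain ⟨e', he', -, hh', hx'⟩ := class_data hH hg'
    rw [hk'] at hh' hx'
    have hmem' : cl g' ∈ (classes Z).erase (cl g) :=
      mem_erase.2 ⟨hne', mem_image.2 ⟨g', by simp [hg'], rfl⟩⟩
    have hR2 := (add_sum_erase _ (weight Z) hmem').symm
    have hw2 : weight Z (cl g') = 3 * ((cl g').card * z) := by
      rw [show weight Z (cl g') = (cl g').card * (4 - 1) * z from hx']; ring
    have hh2 : h = 4 * e' * ((cl g').card * z) := by rw [show h = _ from hh']; ring
    have hh1 : h = 4 * e * (q * z) := by rw [hh]; ring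
    rcases ((classes Z).erase (cl g)).erase (cl g') |>.eq_empty_or_nonempty with h0 | ⟨ω, hω⟩
    · rw [h0, sum_empty, ← hR] at hR2
      rcases he with rfl | rfl <;> rcases he' with rfl | rfl <;> omega
    · have := single_le_sum (f := weight Z) (fun i _ => Nat.zero_le _) hω
      obtain ⟨a, -, -⟩ := weight_facts hH (mem_of_mem_erase (mem_of_mem_erase hω))
      rw [← hR] at hR2
      rcases he with rfl | rfl <;> rcases he' with rfl | rfl <;> omega
  have hq3 : q ≤ 3 := by
    by_contra hq4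
    have h4 : 4 * z ≤ q * z := Nat.mul_le_mul_right z (by omega)
    have hh1 : h = 4 * e * (q * z) := by rw [hh]; ring
    rcases he with rfl | rfl <;> omega
  refine le_trans ?_ hq3
  rw [hq, ← Nat.card_eq_finsetCard]
  refine Nat.card_le_card_of_injective (fun B => ⟨B.1, ?_⟩) fun B B' h => Subtype.ext (congrArg (·.1) h :)
  obtain ⟨g', hg', hk', hB⟩ := B.2
  rw [hB, ← cl_eq_iff]
  exact hsame g' hg' hk'

end CfsgLib.Replacement.LinearTI
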