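import Cfsg.Agent.Lib.Replacement.ZJFunctor
import Cfsg.Agent.Lib.NormalPComplement.Thompson

/-!
The Glauberman-Thompson normal `p`-complement criterion for a strongly closed subgroup, `p` odd.
-/

set_option autoImplicit false
set_option linter.style.haveILetI false

open scoped commutatorElement

universe u

namespace CfsgLib.Replacement

open Cfsg CfsgLib.NormalPComplement

variable {p : ℕ} [Fact p.Prime]

/-- In a critical group every normal `p`-subgroup is acted on stably. -/
theorem isPStableOn_of_isCritical {G : Type*} [Group G] [Finite G] (hp : p ≠ 2) {S : Sylow p G}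
    (h : IsCritical S) (V : Subgroup G) [V.Normal] (hV : IsPGroup p V) : Cfsg.IsPStableOn p V := by
  intro a ha
  set C := Subgroup.centralizer (V : Set G) with hC
  by_cases hall : ∀ k : G, (orderOf k).Coprime p → k ∈ C
  · have hq : IsPGroup p (G ⧸ C) := by
      intro x
      obtain ⟨g, rfl⟩ := QuotientGroup.mk_surjective x
      obtain ⟨e, he⟩ := exists_pow_coprime_orderOf (p := p) (isOfFinOrder_of_finite g)
      exact ⟨e, (QuotientGroup.eq_one_iff _).2 (hall _ he)⟩
    exact Cores.le_pCore (hq.to_subgroup ⊤) (Subgroup.mem_top _)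
  push Not at hall
  obtain ⟨l, hl, hlC⟩ := hall
  have hquad : ∀ b ∈ Subgroup.zpowers a, ∀ v ∈ V, ⁅⁅v, b⁆, b⁆ = 1 := fun b hb v hv => by
    rw [← Subgroup.mem_bot, ← ha]
    exact Subgroup.commutator_mem_commutator (Subgroup.commutator_mem_commutator hv hb) hb
  obtain ⟨α, β, hab, ⟨k, hk⟩, hβ⟩ := exists_pParts (p := p) (isOfFinOrder_of_finite a)
  have hw : a ^ β ∈ C := by
    refine Subgroup.mem_centralizer_iff.2 fun v hv => ?_
    set w := a ^ β
    set y := w * v * w⁻¹ * v⁻¹ with hy
    have hyV : y ∈ V := mul_mem (Subgroup.Normal.conj_mem inferInstance v hv w) (inv_mem hv)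
    have hfix : w * y * w⁻¹ = y := by
      have h1 := hquad w (pow_mem (Subgroup.mem_zpowers a) β) v hv
      rw [commutatorElement_eq_one_iff_mul_comm] at h1
      have h2 : y = (⁅v, w⁆)⁻¹ := by rw [hy, commutatorElement_def]; group
      rw [h2, mul_inv_eq_iff_eq_mul]
      exact (show Commute (⁅v, w⁆) w from h1).inv_left.symm.eq
    have h1 := conj_pow_right hfix (show w * v * w⁻¹ = y * v by rw [hy]; simp) (orderOf w)
    simp only [pow_orderOf_eq_one, one_mul, inv_one, mul_one, right_eq_mul] at h1
    obtain ⟨n, hn⟩ := hV ⟨y, hyV⟩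
    have hy1 : y = 1 := orderOf_eq_one_iff.1 (Nat.eq_one_of_dvd_coprimes (hβ.pow_right n)
      (orderOf_dvd_of_pow_eq_one h1)
      (orderOf_dvd_of_pow_eq_one (congrArg Subtype.val hn)))
    rw [hy, mul_inv_eq_one, mul_inv_eq_iff_eq_mul] at hy1
    exact hy1.symm
  set u := a ^ α
  have hup : IsPGroup p (Subgroup.zpowers u) := by
    obtain ⟨i, -, hi⟩ := (Nat.dvd_prime_pow Fact.out).1 hk
    exact IsPGroup.iff_card.2 ⟨i, by rw [Nat.card_zpowers, hi]⟩
  obtain ⟨T, hT⟩ := hup.exists_le_sylow
  obtain ⟨g, hg⟩ := MulAction.exists_smul_eq G T S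
  have huS : g * u * g⁻¹ ∈ (S : Subgroup G) := by
    rw [← hg, Sylow.coe_subgroup_smul]
    exact Subgroup.smul_mem_pointwise_smul _ (MulAut.conj g) _ (hT (Subgroup.mem_zpowers u))
  have huQ : u ∈ pCore p G := by
    by_contra huQ
    have hgQ : g * u * g⁻¹ ∉ pCore p G := fun h' => huQ (by
      have := (inferInstance : (pCore p G).Normal).conj_mem _ h' g⁻¹
      simpa [mul_assoc] using this)
    refine hlC (h.centralize_of_quadratic hp huS hgQ (Cores.le_pCore hV) (fun v hv => ?_) hl)
    have hv' : g⁻¹ * v * g ∈ V := by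
      simpa using (inferInstance : V.Normal).conj_mem v hv g⁻¹
    have h1 := congrArg (MulAut.conj g) (hquad u (pow_mem (Subgroup.mem_zpowers a) α) _ hv')
    rw [map_commutatorElement, map_commutatorElement, map_one, MulAut.conj_apply,
      MulAut.conj_apply, show g * (g⁻¹ * v * g) * g⁻¹ = v by group] at h1
    exact h1
  have hua : (QuotientGroup.mk a : G ⧸ C) = QuotientGroup.mk' C u := by
    rw [← hab, QuotientGroup.mk_mul, (QuotientGroup.eq_one_iff _).2 hw, mul_one]
    rfl
  rw [hua]
  exact Cores.map_pCore_le_of_surjective (QuotientGroup.mk'_surjective C) ⟨u, huQ, rfl⟩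

/-- A proper subgroup inherits the hypothesis of the criterion. -/
theorem hasNormalPComplement_subgroup_of_zcore {G : Type u} [Group G] [Finite G] {e : ℕ}
    (ih : ∀ (H : Type u) [Group H] [Finite H], Nat.card H < Nat.card G → ∀ (P : Sylow p H)
      (D : Subgroup H), IsStronglyClosed D (P : Subgroup H) →
      HasNormalPComplement p ↥(Subgroup.normalizer (zcore e D : Set H)) → HasNormalPComplement p H)
    {M R E : Subgroup G} (hM : M ≠ ⊤) (hRM : R ≤ M) (hR : IsPGroup p R)
    (hRi : ¬ p ∣ R.relIndex M) (hE : IsStronglyClosed E R)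
    (h : HasNormalPComplement p ↥(Subgroup.normalizer (zcore e E : Set G))) :
    HasNormalPComplement p M := by
  have hlt : Nat.card M < Nat.card G :=
    lt_of_le_of_ne (Subgroup.card_le_card_group M) fun e' => hM (Subgroup.eq_top_of_card_eq M e')
  refine ih M hlt ((hR.of_equiv (Subgroup.subgroupOfEquivOfLe hRM).symm).toSylow hRi) _
    (isStronglyClosed_subgroupOf hE) ?_
  refine hasNormalPComplement_normalizer_of_injective M.subtype M.subtype_injective _ ?_
  rwa [map_zcore_subgroupOf e (hE.1.trans hRM)]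

/-- **Glauberman-Thompson for strongly closed subgroups.** -/
theorem hasNormalPComplement_of_zcore (hp : p ≠ 2) {e : ℕ} (he : e = 0 ∨ e = p)
    {G : Type u} [Group G] [Finite G] (P : Sylow p G) (D : Subgroup G)
    (hD : IsStronglyClosed D (P : Subgroup G))
    (h : HasNormalPComplement p ↥(Subgroup.normalizer (zcore e D : Set G))) :
    HasNormalPComplement p G := by
  suffices hall : ∀ (n : ℕ) (G : Type u) [Group G] [Finite G], Nat.card G = n →
      ∀ (P : Sylow p G) (D : Subgroup G), IsStronglyClosed D (P : Subgroup G) →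
      HasNormalPComplement p ↥(Subgroup.normalizer (zcore e D : Set G)) → HasNormalPComplement p G from
    hall _ G rfl P D hD h
  clear hD h D P
  intro n
  induction n using Nat.strong_induction_on with
  | _ n ihn =>
  intro G _ _ hcard P D hD h
  have ih : ∀ (H : Type u) [Group H] [Finite H], Nat.card H < Nat.card G → ∀ (P : Sylow p H)
      (D : Subgroup H), IsStronglyClosed D (P : Subgroup H) →
      HasNormalPComplement p ↥(Subgroup.normalizer (zcore e D : Set H)) → HasNormalPComplement p H :=
    fun H _ _ hlt => ihn _ (hcard ▸ hlt) H rfl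
  by_contra hnot
  have hpe : p ∣ e := by rcases he with rfl | rfl <;> simp
  have hproper : ∀ M : Subgroup G, (P : Subgroup G) ≤ M → M ≠ ⊤ → HasNormalPComplement p M :=
    fun M hPM hM => hasNormalPComplement_subgroup_of_zcore ih hM hPM P.2
      (fun hd => P.not_dvd_index (hd.trans (Subgroup.relIndex_dvd_index_of_le hPM))) hD h
  have htop : ∀ X : Subgroup G, X.Normal → X = zcore e D → False := by
    rintro X hX rfl
    rw [Subgroup.normalizer_eq_top_iff.2 hX] at h
    exact hnot ((hasNormalPComplement_congr Subgroup.topEquiv).1 h)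
  -- no normal `p'`-subgroup
  have hK : pPrimeCore p G = ⊥ := by
    by_contra hne
    set K := pPrimeCore p G with hKdef
    have hKc : (Nat.card K).Coprime p := Cores.card_pPrimeCore_coprime p
    refine hnot (hasNormalPComplement_of_quotient K hKc (ih _ ?_ _ _
      (isStronglyClosed_map_mk (K := K) P hD) ?_))
    · rw [Subgroup.card_eq_card_quotient_mul_card_subgroup K]
      exact lt_mul_of_one_lt_right Nat.card_pos (Subgroup.one_lt_card_iff_ne_bot _ |>.2 hne)
    · rw [zcore_map_mk e hKc P.2 hD.1]
      refine hasNormalPComplement_of_le_map (QuotientGroup.mk' K) (fun y hy => ?_) h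
      obtain ⟨g, rfl⟩ := QuotientGroup.mk'_surjective K y
      rw [← Subgroup.mem_comap, Subgroup.comap_normalizer_eq_of_surjective _
        (QuotientGroup.mk'_surjective K), Subgroup.comap_map_eq, QuotientGroup.ker_mk', sup_comm]
        at hy
      obtain ⟨k, hk, m, hm, rfl⟩ :=
        exists_mul_normalizer hKc (P.2.to_le ((zcore_le e D).trans hD.1)) hy
      refine ⟨m, hm, ?_⟩
      rw [map_mul, show QuotientGroup.mk' K k = 1 from (QuotientGroup.eq_one_iff k).2 hk, one_mul]
  -- a normal `p`-subgroup
  have hQ : pCore p G ≠ ⊥ := by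
    intro hQ
    classical
    let F : Set (Subgroup G) := {R | IsPGroup p R ∧ R ≠ ⊥ ∧
      ¬ HasNormalPComplement p ↥(Subgroup.normalizer (R : Set G))}
    have hF : F.Nonempty := by
      by_contra hne
      refine hnot (hasNormalPComplement_of_local fun Q hQ hQ1 => ?_)
      by_contra hn
      exact hne ⟨Q, hQ, hQ1, hn⟩
    obtain ⟨R0, hR0, hmax⟩ := F.toFinite.exists_maximalFor
      (fun R : Subgroup G => (Nat.card ↥(Subgroup.normalizer (R : Set G))).factorization p) F hF
    obtain ⟨hR0p, hR01, hR0n⟩ := hR0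
    obtain ⟨T⟩ := (inferInstance : Nonempty (Sylow p ↥(Subgroup.normalizer (R0 : Set G))))
    obtain ⟨g, -, hg⟩ := CfsgLib.PushUp.exists_cmap_le (H := ⊤)
      (le_top (a := (T : Subgroup _).map (Subgroup.normalizer (R0 : Set G)).subtype)) (T.2.map _)
      le_top P.2 (by rw [Subgroup.relIndex_top_right]; exact P.not_dvd_index)
    set R := CfsgLib.PushUp.cmap g R0 with hR
    set N := Subgroup.normalizer (R : Set G) with hNdef
    set T' := CfsgLib.PushUp.cmap g ((T : Subgroup _).map (Subgroup.normalizer (R0 : Set G)).subtype)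
      with hT'
    have hNeq : N = CfsgLib.PushUp.cmap g (Subgroup.normalizer (R0 : Set G)) := by
      rw [hNdef, hR, CfsgLib.PushUp.cmap_normalizer]
    have hT'N : T' ≤ N := hNeq ▸ CfsgLib.PushUp.cmap_mono g (Subgroup.map_subtype_le _)
    have hT'p : IsPGroup p T' := (T.2.map _).map _
    have hT'i : ¬ p ∣ T'.relIndex N := by
      rw [hNeq, hT', Subgroup.relIndex_map_map_of_injective _ _ (MulAut.conj g).injective,
        Subgroup.relIndex, Subgroup.subgroupOf, Subgroup.comap_map_eq_self_of_injective
          (Subgroup.subtype_injective _)]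
      exact T.not_dvd_index
    have hRn : ¬ HasNormalPComplement p N := fun hN => hR0n (by
      refine hasNormalPComplement_of_injective
        ((MulAut.conj g).toMonoidHom.subgroupMap (Subgroup.normalizer (R0 : Set G))) ?_ ?_
      · intro x y hxy
        exact Subtype.ext ((MulAut.conj g).injective (congrArg Subtype.val hxy :))
      · exact hasNormalPComplement_of_le hNeq.ge hN)
    have hNtop : N ≠ ⊤ := fun e' => hR01 (by
      haveI : R.Normal := Subgroup.normalizer_eq_top_iff.1 e'
      exact CfsgLib.PushUp.cmap_eq_bot.1 (le_bot_iff.1 (hQ ▸ Cores.le_pCore (hR0p.map (MulAut.conj g).toMonoidHom))))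
    rcases (hg : T' ≤ (P : Subgroup G)).eq_or_lt with heq | hlt
    · exact hRn (hproper N (heq ▸ hT'N) hNtop)
    have hRT : R ≤ T' := by
      obtain ⟨x, hxN, hx⟩ := CfsgLib.PushUp.exists_cmap_le (Q := R) (H := N) Subgroup.le_normalizer (hR0p.map _) hT'N
        hT'p hT'i
      exact ((CfsgLib.PushUp.cmap_eq_of_mem_normalizer hxN).symm.le).trans hx
    have hne : T' ≠ ⊥ := fun e' => hR01 (CfsgLib.PushUp.cmap_eq_bot.1 (le_bot_iff.1 (e' ▸ hRT)))
    have hW := isConjugacyFunctor_zfunctor hpe D T' hT'p
    refine hRn (hasNormalPComplement_subgroup_of_zcore ih hNtop hT'N hT'p hT'i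
      (isStronglyClosed_zdom hD hlt.le) ?_)
    by_contra hn
    have hmem : zfunctor e D T' ∈ F := ⟨hT'p.to_le hW.1, hW.2.1 hne, hn⟩
    have h1 : T' < (P : Subgroup G) ⊓ Subgroup.normalizer (T' : Set G) :=
      inf_normalizer_gt P.2 hlt
    obtain ⟨m, hm⟩ := IsPGroup.iff_card.1 (P.2.to_inf_left (K := Subgroup.normalizer (T' : Set G)))
    have h2 : p ^ m ∣ Nat.card ↥(Subgroup.normalizer ((zfunctor e D T' : Subgroup G) : Set G)) := by
      refine hm ▸ Subgroup.card_dvd_of_le (inf_le_right.trans fun x hx => ?_)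
      refine CfsgLib.PushUp.mem_normalizer_of_cmap_eq ?_
      have h3 := hW.2.2 x
      rw [show T'.map (MulAut.conj x).toMonoidHom = T' from
        CfsgLib.PushUp.cmap_eq_of_mem_normalizer hx] at h3
      exact h3.symm
    have h3 := (Set.Finite.card_lt_card (Set.toFinite _) h1 :
      Nat.card T' < Nat.card ↥((P : Subgroup G) ⊓ Subgroup.normalizer (T' : Set G)))
    simp only [SetLike.coe_sort_coe] at h3
    have hcardT : Nat.card T' = p ^ (Nat.card ↥(Subgroup.normalizer (R0 : Set G))).factorization p := by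
      rw [hT', CfsgLib.PushUp.card_cmap,
        Subgroup.card_map_of_injective (Subgroup.subtype_injective _), T.card_eq_multiplicity]
    rw [hcardT, hm, Nat.pow_lt_pow_iff_right (Nat.Prime.one_lt Fact.out)] at h3
    have h4 := ((Fact.out : p.Prime).pow_dvd_iff_le_factorization Nat.card_pos.ne').1 h2
    have h5 := hmax hmem (by simp only; omega)
    simp only at h5
    omega
  -- the quotient by `O_p`
  set π := QuotientGroup.mk' (pCore p G) with hπ
  have hq : HasNormalPComplement p (G ⧸ pCore p G) := by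
    set T := P.mapSurjective (QuotientGroup.mk'_surjective (pCore p G)) with hTdef
    by_cases hT : (T : Subgroup (G ⧸ pCore p G)) = ⊥
    · exact hasNormalPComplement_of_coprime
        ((Nat.Prime.coprime_iff_not_dvd Fact.out).2 (not_dvd_of_sylow_eq_bot T hT)).symm
    set X := zcore e (T : Subgroup (G ⧸ pCore p G)) with hX
    have hXne : X ≠ ⊥ := zcore_ne_bot hpe T.2 hT
    have hTX : (T : Subgroup (G ⧸ pCore p G)) ≤ Subgroup.normalizer (X : Set (G ⧸ pCore p G)) :=
      Subgroup.le_normalizer.trans (normalizer_le_normalizer_zcore e _)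
    have hne : (Subgroup.normalizer (X : Set (G ⧸ pCore p G))).comap π ≠ ⊤ := by
      intro e'
      rw [Subgroup.comap_normalizer_eq_of_surjective _ (QuotientGroup.mk'_surjective _)] at e'
      haveI : (X.comap π).Normal := Subgroup.normalizer_eq_top_iff.1 e'
      have hle : X.comap π ≤ pCore p G := Cores.le_pCore
        ((T.2.to_le (zcore_le e _)).comap_of_ker_isPGroup π (by
          rw [hπ, QuotientGroup.ker_mk']; exact Cores.isPGroup_pCore p G))
      refine hXne (eq_bot_iff.2 fun x hx => ?_)
      obtain ⟨g, rfl⟩ := QuotientGroup.mk'_surjective (pCore p G) x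
      exact (QuotientGroup.eq_one_iff g).2 (hle hx)
    refine ih _ ?_ T _ ⟨le_rfl, fun _ _ _ hx => hx⟩
      (hasNormalPComplement_of_le_map π ?_
        (hproper _ (fun s hs => hTX ⟨s, hs, rfl⟩) hne))
    · rw [Subgroup.card_eq_card_quotient_mul_card_subgroup (pCore p G)]
      exact lt_mul_of_one_lt_right Nat.card_pos (Subgroup.one_lt_card_iff_ne_bot _ |>.2 hQ)
    · rw [Subgroup.map_comap_eq_self_of_surjective (QuotientGroup.mk'_surjective _)]
  have hC := centralizer_pCore_le_of_quotient hK hq
  have hmax : ∀ M : Subgroup G, (P : Subgroup G) ≤ M → M = (P : Subgroup G) ∨ M = ⊤ := by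
    intro M hPM
    by_contra hM
    push Not at hM
    have hMn := hproper M hPM hM.2
    refine hM.1 (P.3 (isPGroup_of_forall_coprime fun c hc hc' => ?_) hPM)
    have hQM : pCore p G ≤ M := (Cores.pCore_le_sylow P).trans hPM
    have hcent : c ∈ Subgroup.centralizer (pCore p G : Set G) := by
      refine Subgroup.mem_centralizer_iff.2 fun x hx => ?_
      have h1 := commute_of_normal_pGroup hMn (Q := (pCore p G).subgroupOf M)
        (Cores.isPGroup_pCore p G).comap_subtype (g := ⟨c, hc⟩) (x := ⟨x, hQM hx⟩)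
        (by rwa [← orderOf_injective M.subtype M.subtype_injective]) hx
      exact congrArg Subtype.val h1.eq
    obtain ⟨k, hk⟩ := IsPGroup.iff_card.1 (Cores.isPGroup_pCore p G)
    exact orderOf_eq_one_iff.1 (Nat.eq_one_of_dvd_coprimes (hc'.pow_right k) dvd_rfl
      (hk ▸ Subgroup.orderOf_dvd_natCard _ (hC hcent)))
  have hcrit : IsCritical P := ⟨hnot, hK, hC, hmax, fun k l hk hl => isCritical_comm hq hmax hk hl,
    fun a ha hfix => isCritical_faith hnot hmax ha hfix⟩
  exact htop _ (zcore_normal hp P hD hC (fun V _ hV => isPStableOn_of_isCritical hp hcrit V hV)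
    (he.imp id fun h => h ▸ (Fact.out : p.Prime).odd_of_ne_two hp)) rfl

end CfsgLib.Replacement
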